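/-
Algebra of heights, part 1: abstract height structures on a domain `D`.

A height structure is a degree (multiplicative, non-archimedean) together with a norm which is
submultiplicative and, in bounded degree, multiplicative up to a constant (Gelfond's inequality).
-/
import Mathlib

set_option autoImplicit false

namespace K365.HtAlg

/-- A height structure on a ring `D`. -/
structure Ht (D : Type*) [CommRing D] where
  /-- the degree -/
  deg : D → ℕ
  /-- the norm -/
  nrm : D → ℝ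
  deg_zero : deg 0 = 0
  deg_one : deg 1 = 0
  deg_neg : ∀ f, deg (-f) = deg f
  deg_mul : ∀ f g, f ≠ 0 → g ≠ 0 → deg (f * g) = deg f + deg g
  deg_add : ∀ f g, deg (f + g) ≤ max (deg f) (deg g)
  nrm_nonneg : ∀ f, 0 ≤ nrm f
  nrm_zero : nrm 0 = 0
  nrm_one : nrm 1 = 1
  nrm_neg : ∀ f, nrm (-f) = nrm f
  one_le : ∀ f, f ≠ 0 → 1 ≤ nrm f
  nrm_add : ∀ f g, nrm (f + g) ≤ nrm f + nrm g
  nrm_mul : ∀ f g, nrm (f * g) ≤ nrm f * nrm g
  gelfond : ∀ B : ℕ, ∃ C : ℝ, 0 < C ∧
    ∀ f g, deg f ≤ B → deg g ≤ B → nrm f * nrm g ≤ C * nrm (f * g)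
  northcott : ∀ (B : ℕ) (A : ℝ), {f | deg f ≤ B ∧ nrm f ≤ A}.Finite

namespace Ht

variable {D : Type*} [CommRing D] (H : Ht D)

theorem deg_mul_le (f g : D) : H.deg (f * g) ≤ H.deg f + H.deg g := by
  by_cases hf : f = 0
  · subst hf
    rw [zero_mul, H.deg_zero]
    exact Nat.zero_le _
  by_cases hg : g = 0
  · subst hg
    rw [mul_zero, H.deg_zero]
    exact Nat.zero_le _
  exact (H.deg_mul f g hf hg).le

theorem deg_pow_le (f : D) (n : ℕ) : H.deg (f ^ n) ≤ n * H.deg f := by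
  induction n with
  | zero => rw [pow_zero, H.deg_one]; exact Nat.zero_le _
  | succ n ih =>
    rw [pow_succ, Nat.succ_mul]
    exact (H.deg_mul_le _ _).trans (Nat.add_le_add_right ih _)

theorem deg_pow [IsDomain D] (f : D) (hf : f ≠ 0) (n : ℕ) : H.deg (f ^ n) = n * H.deg f := by
  induction n with
  | zero => rw [pow_zero, H.deg_one, Nat.zero_mul]
  | succ n ih =>
    rw [pow_succ, Nat.succ_mul, H.deg_mul _ _ (pow_ne_zero n hf) hf, ih]

theorem deg_sum_le {α : Type*} (s : Finset α) (f : α → D) (B : ℕ)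
    (h : ∀ i ∈ s, H.deg (f i) ≤ B) : H.deg (∑ i ∈ s, f i) ≤ B := by
  classical
  induction s using Finset.induction_on with
  | empty => rw [Finset.sum_empty, H.deg_zero]; exact Nat.zero_le _
  | insert a s ha ih =>
    rw [Finset.sum_insert ha]
    refine (H.deg_add _ _).trans (max_le (h a (Finset.mem_insert_self a s)) ?_)
    exact ih fun i hi => h i (Finset.mem_insert_of_mem hi)

theorem deg_prod_le {α : Type*} (s : Finset α) (f : α → D) :
    H.deg (∏ i ∈ s, f i) ≤ ∑ i ∈ s, H.deg (f i) := by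
  classical
  induction s using Finset.induction_on with
  | empty => rw [Finset.prod_empty, H.deg_one]; exact Nat.zero_le _
  | insert a s ha ih =>
    rw [Finset.prod_insert ha, Finset.sum_insert ha]
    exact (H.deg_mul_le _ _).trans (Nat.add_le_add_left ih _)

theorem nrm_sum_le {α : Type*} (s : Finset α) (f : α → D) :
    H.nrm (∑ i ∈ s, f i) ≤ ∑ i ∈ s, H.nrm (f i) := by
  classical
  induction s using Finset.induction_on with
  | empty => rw [Finset.sum_empty, H.nrm_zero, Finset.sum_empty]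
  | insert a s ha ih =>
    rw [Finset.sum_insert ha, Finset.sum_insert ha]
    exact (H.nrm_add _ _).trans (add_le_add le_rfl ih)

theorem nrm_pow_le (f : D) (n : ℕ) : H.nrm (f ^ n) ≤ H.nrm f ^ n := by
  induction n with
  | zero => rw [pow_zero, pow_zero, H.nrm_one]
  | succ n ih =>
    rw [pow_succ, pow_succ]
    exact (H.nrm_mul _ _).trans (mul_le_mul_of_nonneg_right ih (H.nrm_nonneg _))

theorem nrm_prod_le {α : Type*} (s : Finset α) (f : α → D) :
    H.nrm (∏ i ∈ s, f i) ≤ ∏ i ∈ s, H.nrm (f i) := by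
  classical
  induction s using Finset.induction_on with
  | empty => rw [Finset.prod_empty, H.nrm_one, Finset.prod_empty]
  | insert a s ha ih =>
    rw [Finset.prod_insert ha, Finset.prod_insert ha]
    exact (H.nrm_mul _ _).trans (mul_le_mul_of_nonneg_left ih (H.nrm_nonneg _))

theorem gelfond_pow (B n : ℕ) : ∃ C : ℝ, 0 < C ∧ ∀ f, H.deg f ≤ B →
    H.nrm f ^ n ≤ C * H.nrm (f ^ n) := by
  induction n with
  | zero =>
    refine ⟨1, one_pos, fun f _ => ?_⟩
    rw [pow_zero, pow_zero, H.nrm_one, mul_one]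
  | succ n ih =>
    obtain ⟨C1, hC1, h1⟩ := ih
    obtain ⟨C2, hC2, h2⟩ := H.gelfond ((n + 1) * B)
    refine ⟨C1 * C2, mul_pos hC1 hC2, fun f hf => ?_⟩
    have h3 : H.deg (f ^ n) ≤ (n + 1) * B :=
      (H.deg_pow_le f n).trans (Nat.mul_le_mul (Nat.le_succ n) hf)
    have h4 : H.deg f ≤ (n + 1) * B := hf.trans (Nat.le_mul_of_pos_left B (Nat.succ_pos n))
    calc H.nrm f ^ (n + 1) = H.nrm f ^ n * H.nrm f := pow_succ _ _
      _ ≤ (C1 * H.nrm (f ^ n)) * H.nrm f := mul_le_mul_of_nonneg_right (h1 f hf) (H.nrm_nonneg _)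
      _ = C1 * (H.nrm (f ^ n) * H.nrm f) := by ring
      _ ≤ C1 * (C2 * H.nrm (f ^ n * f)) := mul_le_mul_of_nonneg_left (h2 _ _ h3 h4) hC1.le
      _ = C1 * C2 * H.nrm (f ^ (n + 1)) := by rw [pow_succ]; ring

/-- Degree of a value of a homogeneous polynomial. -/
theorem deg_eval_le {ι : Type*} (a : MvPolynomial ι D) (d : ℕ) (ha : a.IsHomogeneous d) :
    ∃ c : ℕ, ∀ (ρ : ι → D) (h : ℕ), (∀ i, H.deg (ρ i) ≤ h) →
      H.deg (MvPolynomial.eval ρ a) ≤ c + d * h := by
  classical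
  refine ⟨a.support.sup fun m => H.deg (a.coeff m), fun ρ h hρ => ?_⟩
  rw [MvPolynomial.eval_eq]
  refine H.deg_sum_le _ _ _ fun m hm => ?_
  refine (H.deg_mul_le _ _).trans (Nat.add_le_add ?_ ?_)
  · exact Finset.le_sup (f := fun m => H.deg (a.coeff m)) hm
  · refine (H.deg_prod_le _ _).trans ?_
    have h1 : ∑ i ∈ m.support, m i = d := by
      have h2 := ha (MvPolynomial.mem_support_iff.1 hm)
      rw [← h2, Finsupp.weight_apply, Finsupp.sum]
      simp
    calc ∑ i ∈ m.support, H.deg (ρ i ^ m i) ≤ ∑ i ∈ m.support, m i * h :=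
          Finset.sum_le_sum fun i _ => (H.deg_pow_le _ _).trans (Nat.mul_le_mul_left _ (hρ i))
      _ = d * h := by rw [← Finset.sum_mul, h1]

/-- Norm of a value of a homogeneous polynomial. -/
theorem nrm_eval_le {ι : Type*} (a : MvPolynomial ι D) (d : ℕ) (ha : a.IsHomogeneous d) :
    ∃ C : ℝ, 0 < C ∧ ∀ (ρ : ι → D) (R : ℝ), (∀ i, H.nrm (ρ i) ≤ R) → 0 ≤ R →
      H.nrm (MvPolynomial.eval ρ a) ≤ C * R ^ d := by
  classical
  refine ⟨∑ m ∈ a.support, H.nrm (a.coeff m) + 1, ?_, fun ρ R hρ hR => ?_⟩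
  · have := Finset.sum_nonneg (s := a.support) (f := fun m => H.nrm (a.coeff m))
      (fun m _ => H.nrm_nonneg _)
    linarith
  rw [MvPolynomial.eval_eq]
  have h0 : 0 ≤ R ^ d := pow_nonneg hR d
  have hmain : H.nrm (∑ m ∈ a.support, a.coeff m * ∏ i ∈ m.support, ρ i ^ m i) ≤
      ∑ m ∈ a.support, H.nrm (a.coeff m) * R ^ d := by
    refine (H.nrm_sum_le _ _).trans (Finset.sum_le_sum fun m hm => ?_)
    refine (H.nrm_mul _ _).trans (mul_le_mul_of_nonneg_left ?_ (H.nrm_nonneg _))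
    refine (H.nrm_prod_le _ _).trans ?_
    have h1 : ∑ i ∈ m.support, m i = d := by
      have h2 := ha (MvPolynomial.mem_support_iff.1 hm)
      rw [← h2, Finsupp.weight_apply, Finsupp.sum]
      simp
    calc ∏ i ∈ m.support, H.nrm (ρ i ^ m i) ≤ ∏ i ∈ m.support, R ^ m i :=
          Finset.prod_le_prod (fun i _ => H.nrm_nonneg _) fun i _ =>
            (H.nrm_pow_le _ _).trans (pow_le_pow_left₀ (H.nrm_nonneg _) (hρ i) _)
      _ = R ^ d := by rw [Finset.prod_pow_eq_pow_sum, h1]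
  refine hmain.trans ?_
  rw [← Finset.sum_mul]
  nlinarith

/-- Degree of an element satisfying an integral equation. -/
theorem deg_root_le [IsDomain D] (n : ℕ) (a : ℕ → D) (y : D) (c h : ℕ)
    (ha : ∀ k ∈ Finset.Icc 1 n, H.deg (a k) ≤ c + k * h)
    (hy : y ^ n + ∑ k ∈ Finset.Icc 1 n, a k * y ^ (n - k) = 0) : H.deg y ≤ c + h := by
  by_contra hlt
  push Not at hlt
  have hy0 : y ≠ 0 := by
    rintro rfl
    rw [H.deg_zero] at hlt
    exact absurd hlt (Nat.not_lt_zero _)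
  have hn : 1 ≤ n := by
    by_contra hn
    have h0 : n = 0 := by omega
    subst h0
    simp at hy
  have h1 : y ^ n = -∑ k ∈ Finset.Icc 1 n, a k * y ^ (n - k) := eq_neg_of_add_eq_zero_left hy
  have h2 : H.deg (y ^ n) ≤ n * H.deg y - 1 := by
    rw [h1, H.deg_neg]
    refine H.deg_sum_le _ _ _ fun k hk => ?_
    have hk' := Finset.mem_Icc.1 hk
    have h3 : H.deg (a k * y ^ (n - k)) ≤ (c + k * h) + (n - k) * H.deg y :=
      (H.deg_mul_le _ _).trans (Nat.add_le_add (ha k hk) (H.deg_pow_le _ _))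
    have h4 : c + k * h + 1 ≤ k * H.deg y := by
      have h5 : k * (c + h + 1) ≤ k * H.deg y := Nat.mul_le_mul_left k hlt
      have h6 : c + k * h + 1 ≤ k * (c + h + 1) := by
        have : 1 * c ≤ k * c := Nat.mul_le_mul_right c hk'.1
        nlinarith
      exact h6.trans h5
    have h7 : k * H.deg y + (n - k) * H.deg y = n * H.deg y := by
      rw [← Nat.add_mul, Nat.add_sub_cancel' hk'.2]
    omega
  rw [H.deg_pow y hy0] at h2
  have h8 : 1 ≤ n * H.deg y := Nat.mul_pos hn (by omega)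
  omega

/-- Norm of an element satisfying an integral equation, in bounded degree. -/
theorem nrm_root_le [IsDomain D] (n B : ℕ) : ∃ C : ℝ, 0 < C ∧
    ∀ (a : ℕ → D) (y : D) (A R : ℝ), H.deg y ≤ B → 1 ≤ A → 0 ≤ R →
      (∀ k ∈ Finset.Icc 1 n, H.nrm (a k) ≤ A * R ^ k) →
      y ^ n + ∑ k ∈ Finset.Icc 1 n, a k * y ^ (n - k) = 0 → H.nrm y ≤ C * A * R := by
  obtain ⟨C1, hC1, h1⟩ := H.gelfond_pow B n
  refine ⟨C1 * n + 1, by positivity, fun a y A R hdeg hA hR ha hy => ?_⟩
  set t := H.nrm y with ht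
  have ht0 : 0 ≤ t := H.nrm_nonneg _
  by_cases htR : t ≤ R
  · have h2 : R ≤ (C1 * n + 1) * A * R := by
      have h3 : 1 ≤ (C1 * n + 1) * A := by
        have h4 : (0:ℝ) ≤ C1 * n := by positivity
        nlinarith
      nlinarith
    exact htR.trans h2
  push Not at htR
  have hn : 1 ≤ n := by
    by_contra hn
    have h0 : n = 0 := by omega
    subst h0
    simp at hy
  have htpos : 0 < t := lt_of_le_of_lt hR htR
  have h2 : y ^ n = -∑ k ∈ Finset.Icc 1 n, a k * y ^ (n - k) := eq_neg_of_add_eq_zero_left hy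
  have h3 : H.nrm (y ^ n) ≤ n * (A * R * t ^ (n - 1)) := by
    rw [h2, H.nrm_neg]
    refine (H.nrm_sum_le _ _).trans ?_
    have h4 : ∀ k ∈ Finset.Icc 1 n, H.nrm (a k * y ^ (n - k)) ≤ A * R * t ^ (n - 1) := by
      intro k hk
      have hk' := Finset.mem_Icc.1 hk
      refine (H.nrm_mul _ _).trans ?_
      have h5 : H.nrm (a k) * H.nrm (y ^ (n - k)) ≤ (A * R ^ k) * t ^ (n - k) :=
        mul_le_mul (ha k hk) (H.nrm_pow_le _ _) (H.nrm_nonneg _) (by positivity)
      refine h5.trans ?_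
      obtain ⟨l, rfl⟩ : ∃ l, k = l + 1 := ⟨k - 1, by omega⟩
      have h6 : R ^ (l + 1) * t ^ (n - (l + 1)) ≤ R * t ^ (n - 1) := by
        have h7 : n - 1 = l + (n - (l + 1)) := by omega
        rw [h7, pow_succ', pow_add]
        have h8 : R ^ l ≤ t ^ l := pow_le_pow_left₀ hR htR.le l
        have h9 : 0 ≤ t ^ (n - (l + 1)) := by positivity
        calc R * R ^ l * t ^ (n - (l + 1)) = R * (R ^ l * t ^ (n - (l + 1))) := by ring
          _ ≤ R * (t ^ l * t ^ (n - (l + 1))) :=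
            mul_le_mul_of_nonneg_left (mul_le_mul_of_nonneg_right h8 h9) hR
      calc A * R ^ (l + 1) * t ^ (n - (l + 1)) = A * (R ^ (l + 1) * t ^ (n - (l + 1))) := by ring
        _ ≤ A * (R * t ^ (n - 1)) := mul_le_mul_of_nonneg_left h6 (by linarith)
        _ = A * R * t ^ (n - 1) := by ring
    refine (Finset.sum_le_sum h4).trans ?_
    rw [Finset.sum_const, Nat.card_Icc, nsmul_eq_mul, Nat.add_sub_cancel]
  have h4 : t ^ n ≤ C1 * (n * (A * R * t ^ (n - 1))) :=
    (h1 y hdeg).trans (mul_le_mul_of_nonneg_left h3 hC1.le)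
  have h5 : t ^ n = t * t ^ (n - 1) := by
    rw [← pow_succ']
    congr 1
    omega
  have h6 : 0 < t ^ (n - 1) := by positivity
  have h7 : t ≤ C1 * n * A * R := by
    rw [h5] at h4
    have h8 : t * t ^ (n - 1) ≤ (C1 * n * A * R) * t ^ (n - 1) := by
      calc t * t ^ (n - 1) ≤ C1 * (n * (A * R * t ^ (n - 1))) := h4
        _ = (C1 * n * A * R) * t ^ (n - 1) := by ring
    exact le_of_mul_le_mul_right h8 h6
  have h8 : 0 ≤ A * R := by positivity
  nlinarith

end Ht

end K365.HtAlg
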