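/-
Algebra of heights, part 2: primitive vectors over a unique factorization domain and the
comparison of the sizes of two primitive vectors linked by homogeneous integral relations.
-/
import Mathlib
import Groth.Agent.MultTori.K365.Ht

set_option autoImplicit false

namespace K365.HtAlg

open MvPolynomial

section Prim

variable {D : Type*} [CommRing D] [IsDomain D] [UniqueFactorizationMonoid D]

/-- Primitive vectors. -/
def Prim {D : Type*} [CommRing D] {ι : Type*} (ρ : ι → D) : Prop :=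
  ∀ d : D, (∀ i, d ∣ ρ i) → IsUnit d

omit [UniqueFactorizationMonoid D] in
theorem Prim.exists_ne {ι : Type*} {ρ : ι → D} (h : Prim ρ) : ∃ i, ρ i ≠ 0 := by
  by_contra hn
  push Not at hn
  exact not_isUnit_zero (h 0 fun i => by rw [hn i])

omit [IsDomain D] in
theorem prim_of_prime {ι : Type*} {ρ : ι → D} (h0 : ∃ i, ρ i ≠ 0)
    (h : ∀ p : D, Prime p → ∃ i, ¬ p ∣ ρ i) : Prim ρ := by
  intro d hd
  by_contra hu
  by_cases hd0 : d = 0
  · obtain ⟨i, hi⟩ := h0
    exact hi (zero_dvd_iff.1 (hd0 ▸ hd i))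
  obtain ⟨p, hp, hpd⟩ := WfDvdMonoid.exists_irreducible_factor hu hd0
  obtain ⟨i, hi⟩ := h p (UniqueFactorizationMonoid.irreducible_iff_prime.1 hp)
  exact hi (hpd.trans (hd i))

omit [IsDomain D] [UniqueFactorizationMonoid D] in
theorem Prim.exists_not_dvd {ι : Type*} {ρ : ι → D} (h : Prim ρ) (p : D) (hp : Prime p) :
    ∃ i, ¬ p ∣ ρ i := by
  by_contra hn
  push Not at hn
  exact hp.not_isUnit (h p hn)

theorem Prim.mul {ι κ : Type*} {ρ : ι → D} {τ : κ → D} (hρ : Prim ρ) (hτ : Prim τ) :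
    Prim (fun p : ι × κ => ρ p.1 * τ p.2) := by
  obtain ⟨i, hi⟩ := hρ.exists_ne
  obtain ⟨j, hj⟩ := hτ.exists_ne
  refine prim_of_prime ⟨(i, j), mul_ne_zero hi hj⟩ fun p hp => ?_
  obtain ⟨i, hi⟩ := hρ.exists_not_dvd p hp
  obtain ⟨j, hj⟩ := hτ.exists_not_dvd p hp
  exact ⟨(i, j), fun h => (hp.dvd_or_dvd h).elim hi hj⟩

theorem Prim.pow {ι : Type*} {ρ : ι → D} (hρ : Prim ρ) (n : ℕ) :
    Prim (fun i => ρ i ^ n) := by
  obtain ⟨i, hi⟩ := hρ.exists_ne
  refine prim_of_prime ⟨i, pow_ne_zero n hi⟩ fun p hp => ?_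
  obtain ⟨i, hi⟩ := hρ.exists_not_dvd p hp
  exact ⟨i, fun h => hi (hp.dvd_of_dvd_pow h)⟩

end Prim

section Rep

variable {D : Type*} [CommRing D] [IsDomain D] [UniqueFactorizationMonoid D]
variable {K : Type*} [Field K] [Algebra D K] [IsFractionRing D K]

/-- `ρ` is a primitive representative of the vector `x`. -/
def IsRep {D K : Type*} [CommRing D] [Field K] [Algebra D K] {ι : Type*} (x : ι → K)
    (ρ : ι → D) : Prop :=
  Prim ρ ∧ ∃ c : K, c ≠ 0 ∧ ∀ i, x i = c * algebraMap D K (ρ i)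

theorem exists_rep {ι : Type*} [Finite ι] (x : ι → K) (hx : x ≠ 0) : ∃ ρ : ι → D, IsRep x ρ := by
  classical
  have : Fintype ι := Fintype.ofFinite ι
  letI : StrongNormalizationMonoid D := UniqueFactorizationMonoid.strongNormalizationMonoid
  letI : NormalizedGCDMonoid D := UniqueFactorizationMonoid.toNormalizedGCDMonoid D
  obtain ⟨b, hb⟩ := IsLocalization.exist_integer_multiples_of_finite (nonZeroDivisors D) x
  choose y hy using hb
  obtain ⟨i0, hi0⟩ : ∃ i, x i ≠ 0 := by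
    by_contra hn
    push Not at hn
    exact hx (funext hn)
  obtain ⟨g, hg, hg1⟩ := Finset.extract_gcd (s := Finset.univ) y ⟨i0, Finset.mem_univ _⟩
  have hb0 : algebraMap D K (b : D) ≠ 0 := IsFractionRing.to_map_ne_zero_of_mem_nonZeroDivisors b.2
  have hy' : ∀ i, algebraMap D K (y i) = algebraMap D K (b : D) * x i := by
    intro i
    rw [hy i, Algebra.smul_def]
  have hgcd : Finset.univ.gcd y ≠ 0 := by
    intro h0
    have h1 := hg i0 (Finset.mem_univ _)
    rw [h0, zero_mul] at h1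
    have h2 := hy' i0
    rw [h1, map_zero] at h2
    exact (mul_ne_zero hb0 hi0) h2.symm
  refine ⟨g, ?_, algebraMap D K (Finset.univ.gcd y) / algebraMap D K (b : D), ?_, ?_⟩
  · intro d hd
    have h1 : d ∣ Finset.univ.gcd g := Finset.dvd_gcd fun i _ => hd i
    rw [hg1] at h1
    exact isUnit_of_dvd_one h1
  · refine div_ne_zero ?_ hb0
    exact fun h => hgcd (IsFractionRing.injective D K (by rw [h, map_zero]))
  · intro i
    rw [div_mul_eq_mul_div, ← map_mul, ← hg i (Finset.mem_univ _), hy' i]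
    field_simp

/-- If a multiple of a primitive vector is integral, the multiplier is integral. -/
theorem exists_of_mul_prim {κ : Type*} {τ : κ → D} (hτ : Prim τ) (μ : K) (hμ : μ ≠ 0)
    (z : κ → D) (hz : ∀ j, algebraMap D K (z j) = μ * algebraMap D K (τ j)) :
    ∃ d : D, d ≠ 0 ∧ algebraMap D K d = μ ∧ ∀ j, z j = d * τ j := by
  obtain ⟨a, b, hab, hμ'⟩ := IsFractionRing.exists_reduced_fraction D μ
  have hb0 : algebraMap D K (b : D) ≠ 0 := IsFractionRing.to_map_ne_zero_of_mem_nonZeroDivisors b.2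
  have hμb : μ * algebraMap D K (b : D) = algebraMap D K a := by
    rw [← hμ']
    exact IsLocalization.mk'_spec K a b
  have h1 : ∀ j, (b : D) * z j = a * τ j := by
    intro j
    apply IsFractionRing.injective D K
    rw [map_mul, map_mul, hz j, ← hμb]
    ring
  have h2 : ∀ j, (b : D) ∣ τ j := fun j =>
    IsRelPrime.dvd_of_dvd_mul_left hab.symm (Dvd.intro _ (h1 j))
  have h3 : IsUnit (b : D) := hτ _ h2
  obtain ⟨u, hu⟩ := h3
  have hd : algebraMap D K (a * (↑u⁻¹ : D)) = μ := by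
    rw [map_mul, ← hμb, ← hu, mul_assoc, ← map_mul, Units.mul_inv, map_one, mul_one]
  refine ⟨a * (↑u⁻¹ : D), ?_, hd, ?_⟩
  · intro h0
    rw [h0, map_zero] at hd
    exact hμ hd.symm
  · intro j
    apply IsFractionRing.injective D K
    rw [hz j, map_mul, hd]

omit [IsDomain D] [UniqueFactorizationMonoid D] [IsFractionRing D K] in
/-- Value of a homogeneous polynomial at a multiple of a vector. -/
theorem eval_smul {ι : Type*} (a : MvPolynomial ι K) (d : ℕ) (ha : a.IsHomogeneous d) (c : K)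
    (x : ι → K) : eval (fun i => c * x i) a = c ^ d * eval x a := by
  rw [eval_eq, eval_eq, Finset.mul_sum]
  refine Finset.sum_congr rfl fun m hm => ?_
  have h1 : ∑ i ∈ m.support, m i = d := by
    have h2 := ha (MvPolynomial.mem_support_iff.1 hm)
    rw [← h2, Finsupp.weight_apply, Finsupp.sum]
    simp
  simp_rw [mul_pow]
  rw [Finset.prod_mul_distrib, Finset.prod_pow_eq_pow_sum, h1]
  ring

omit [UniqueFactorizationMonoid D] in
/-- Clearing denominators. -/
theorem exists_clear {ι κ : Type*} [Finite κ] (n : κ → ℕ) (a : κ → ℕ → MvPolynomial ι K) :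
    ∃ (δ : D) (A : κ → ℕ → MvPolynomial ι D), δ ≠ 0 ∧ ∀ j, ∀ k ∈ Finset.Icc 1 (n j),
      MvPolynomial.map (algebraMap D K) (A j k) = C (algebraMap D K δ ^ k) * a j k := by
  classical
  have : Fintype κ := Fintype.ofFinite κ
  let S : Finset K := Finset.univ.biUnion fun j : κ =>
    (Finset.Icc 1 (n j)).biUnion fun k => (a j k).coeffs
  obtain ⟨b, hb⟩ := IsLocalization.exist_integer_multiples_of_finset (nonZeroDivisors D) S
  have hS : ∀ j, ∀ k ∈ Finset.Icc 1 (n j), ∀ c ∈ (a j k).coeffs, c ∈ S := by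
    intro j k hk c hc
    exact Finset.mem_biUnion.2 ⟨j, Finset.mem_univ _, Finset.mem_biUnion.2 ⟨k, hk, hc⟩⟩
  have key : ∀ j, ∀ k ∈ Finset.Icc 1 (n j), ∃ A : MvPolynomial ι D,
      MvPolynomial.map (algebraMap D K) A = C (algebraMap D K (b : D) ^ k) * a j k := by
    intro j k hk
    have h1 : C (algebraMap D K (b : D) ^ k) * a j k ∈
        Set.range (MvPolynomial.map (σ := ι) (algebraMap D K)) := by
      rw [mem_range_map_iff_coeffs_subset]
      intro c hc
      obtain ⟨m, hm⟩ : ∃ m, c = coeff m (C (algebraMap D K (b : D) ^ k) * a j k) ∧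
          coeff m (C (algebraMap D K (b : D) ^ k) * a j k) ≠ 0 := by
        obtain ⟨m, hm, rfl⟩ := mem_coeffs_iff.1 hc
        exact ⟨m, rfl, mem_support_iff.1 hm⟩
      obtain ⟨rfl, hm0⟩ := hm
      rw [coeff_C_mul] at hm0 ⊢
      have hne : coeff m (a j k) ≠ 0 := right_ne_zero_of_mul hm0
      have h2 : coeff m (a j k) ∈ (a j k).coeffs := coeff_mem_coeffs m hne
      obtain ⟨z, hz⟩ := hb _ (hS j k hk _ h2)
      obtain ⟨l, rfl⟩ : ∃ l, k = l + 1 := ⟨k - 1, by have := (Finset.mem_Icc.1 hk).1; omega⟩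
      refine ⟨(b : D) ^ l * z, ?_⟩
      rw [map_mul, map_pow, hz, Algebra.smul_def, pow_succ]
      ring
    obtain ⟨A, hA⟩ := h1
    exact ⟨A, hA⟩
  refine ⟨b, fun j k => if hk : k ∈ Finset.Icc 1 (n j) then (key j k hk).choose else 0,
    nonZeroDivisors.ne_zero b.2, fun j k hk => ?_⟩
  simp only [dif_pos hk]
  exact (key j k hk).choose_spec

/-- Integral relations between two vectors. -/
def Rel {K : Type*} [Field K] {ι κ : Type*} (n : κ → ℕ) (a : κ → ℕ → MvPolynomial ι K)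
    (x : ι → K) (y : κ → K) : Prop :=
  ∃ c : K, c ≠ 0 ∧ ∀ j, (c * y j) ^ (n j) +
    ∑ k ∈ Finset.Icc 1 (n j), eval x (a j k) * (c * y j) ^ (n j - k) = 0

theorem normalForm {ι κ : Type*} [Finite κ] (e : ℕ) (n : κ → ℕ)
    (a : κ → ℕ → MvPolynomial ι K) (ha : ∀ j k, (a j k).IsHomogeneous (e * k)) :
    ∃ A : κ → ℕ → MvPolynomial ι D,
      (∀ j, ∀ k ∈ Finset.Icc 1 (n j), (A j k).IsHomogeneous (e * k)) ∧
      ∀ (x : ι → K) (y : κ → K) (ρ : ι → D) (τ : κ → D), IsRep x ρ → IsRep y τ → Rel n a x y →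
        ∃ d : D, d ≠ 0 ∧ ∀ j, (d * τ j) ^ (n j) +
          ∑ k ∈ Finset.Icc 1 (n j), eval ρ (A j k) * (d * τ j) ^ (n j - k) = 0 := by
  obtain ⟨δ, A, hδ, hA⟩ := exists_clear (D := D) n a
  refine ⟨A, fun j k hk => ?_, ?_⟩
  · refine IsHomogeneous.of_map (IsFractionRing.injective D K) ?_
    rw [hA j k hk]
    exact (ha j k).C_mul _
  rintro x y ρ τ ⟨_, c1, hc1, hx⟩ ⟨hτ, c2, hc2, hy⟩ ⟨c, hc, hrel⟩
  have hδ' : algebraMap D K δ ≠ 0 := fun h => hδ (IsFractionRing.injective D K (by rw [h, map_zero]))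
  set lam : K := algebraMap D K δ / c1 ^ e with hlam
  have hc1e : c1 ^ e ≠ 0 := pow_ne_zero e hc1
  have hlam0 : lam ≠ 0 := div_ne_zero hδ' hc1e
  -- the values of the cleared polynomials
  have hval : ∀ j, ∀ k ∈ Finset.Icc 1 (n j),
      algebraMap D K (eval ρ (A j k)) = lam ^ k * eval x (a j k) := by
    intro j k hk
    have h1 : algebraMap D K (eval ρ (A j k)) =
        eval (fun i => algebraMap D K (ρ i)) (MvPolynomial.map (algebraMap D K) (A j k)) := by
      rw [eval_map]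
      have h0 := eval₂_comp_left (algebraMap D K) (RingHom.id D) ρ (A j k)
      rw [RingHom.comp_id] at h0
      exact h0
    have h2 : eval x (a j k) = c1 ^ (e * k) * eval (fun i => algebraMap D K (ρ i)) (a j k) := by
      rw [← eval_smul (a j k) (e * k) (ha j k) c1]
      congr 2
      funext i
      exact hx i
    rw [h1, hA j k hk, map_mul, eval_C, h2, hlam, div_pow, ← pow_mul]
    have h3 : c1 ^ (e * k) ≠ 0 := pow_ne_zero _ hc1
    field_simp
  -- the relation after rescaling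
  have hrel' : ∀ j, (lam * (c * y j)) ^ (n j) + ∑ k ∈ Finset.Icc 1 (n j),
      algebraMap D K (eval ρ (A j k)) * (lam * (c * y j)) ^ (n j - k) = 0 := by
    intro j
    have h1 := congrArg (fun t => lam ^ (n j) * t) (hrel j)
    simp only [mul_zero, mul_add, Finset.mul_sum] at h1
    rw [← h1, mul_pow]
    congr 1
    refine Finset.sum_congr rfl fun k hk => ?_
    rw [hval j k hk, mul_pow]
    have h2 : lam ^ n j = lam ^ k * lam ^ (n j - k) := by
      rw [← pow_add, Nat.add_sub_cancel' (Finset.mem_Icc.1 hk).2]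
    rw [h2]
    ring
  -- integrality
  have hint : ∀ j, IsIntegral D (lam * (c * y j)) := by
    intro j
    refine ⟨Polynomial.X ^ (n j) + ∑ k ∈ Finset.Icc 1 (n j),
      Polynomial.C (eval ρ (A j k)) * Polynomial.X ^ (n j - k), ?_, ?_⟩
    · apply Polynomial.monic_X_pow_add
      refine (Polynomial.degree_sum_le _ _).trans_lt ?_
      refine (Finset.sup_lt_iff (WithBot.bot_lt_coe (n j))).2 ?_
      intro k hk
      refine (Polynomial.degree_C_mul_X_pow_le _ _).trans_lt ?_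
      have := Finset.mem_Icc.1 hk
      exact WithBot.coe_lt_coe.2 (by omega : n j - k < n j)
    · rw [Polynomial.eval₂_add, Polynomial.eval₂_finsetSum, Polynomial.eval₂_X_pow]
      simp only [Polynomial.eval₂_mul, Polynomial.eval₂_C, Polynomial.eval₂_X_pow]
      exact hrel' j
  have hz : ∀ j, ∃ z : D, algebraMap D K z = lam * (c * y j) := fun j =>
    IsIntegrallyClosed.isIntegral_iff.1 (hint j)
  choose z hz using hz
  set μ : K := lam * (c * c2) with hμdef
  have hμ0 : μ ≠ 0 := mul_ne_zero hlam0 (mul_ne_zero hc hc2)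
  have hz' : ∀ j, algebraMap D K (z j) = μ * algebraMap D K (τ j) := by
    intro j
    rw [hz j, hy j, hμdef]
    ring
  obtain ⟨d, hd0, _, hd⟩ := exists_of_mul_prim hτ μ hμ0 z hz'
  refine ⟨d, hd0, fun j => ?_⟩
  rw [← hd j]
  apply IsFractionRing.injective D K
  rw [map_zero, map_add, map_pow, map_sum, hz j]
  simp only [map_mul, map_pow, hz j]
  exact hrel' j

theorem cmp_deg (H : Ht D) {ι κ : Type*} [Fintype κ] (e : ℕ) (n : κ → ℕ)
    (a : κ → ℕ → MvPolynomial ι K) (ha : ∀ j k, (a j k).IsHomogeneous (e * k)) :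
    ∃ c0 : ℕ, ∀ (x : ι → K) (y : κ → K) (ρ : ι → D) (τ : κ → D), IsRep x ρ → IsRep y τ →
      Rel n a x y → ∀ h : ℕ, (∀ i, H.deg (ρ i) ≤ h) → ∀ j, H.deg (τ j) ≤ c0 + e * h := by
  classical
  obtain ⟨A, hA, hmain⟩ := normalForm (D := D) e n a ha
  have h1 : ∀ j k, ∃ c : ℕ, k ∈ Finset.Icc 1 (n j) → ∀ (ρ : ι → D) (h : ℕ),
      (∀ i, H.deg (ρ i) ≤ h) → H.deg (eval ρ (A j k)) ≤ c + (e * k) * h := by
    intro j k
    by_cases hk : k ∈ Finset.Icc 1 (n j)
    · obtain ⟨c, hc⟩ := H.deg_eval_le (A j k) (e * k) (hA j k hk)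
      exact ⟨c, fun _ => hc⟩
    · exact ⟨0, fun h => absurd h hk⟩
  choose cst hcst using h1
  refine ⟨Finset.univ.sup fun j => (Finset.Icc 1 (n j)).sup fun k => cst j k,
    fun x y ρ τ hx hy hrel h hρ j => ?_⟩
  obtain ⟨d, hd0, hd⟩ := hmain x y ρ τ hx hy hrel
  by_cases hτ : τ j = 0
  · rw [hτ, H.deg_zero]
    exact Nat.zero_le _
  have h2 : H.deg (d * τ j) ≤
      (Finset.univ.sup fun j => (Finset.Icc 1 (n j)).sup fun k => cst j k) + e * h := by
    refine H.deg_root_le (n j) (fun k => eval ρ (A j k)) _ _ _ (fun k hk => ?_) (hd j)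
    refine (hcst j k hk ρ h hρ).trans (Nat.add_le_add ?_ ?_)
    · exact (Finset.le_sup (f := fun k => cst j k) hk).trans
        (Finset.le_sup (f := fun j => (Finset.Icc 1 (n j)).sup fun k => cst j k)
          (Finset.mem_univ j))
    · exact le_of_eq (by ring)
  rw [H.deg_mul _ _ hd0 hτ] at h2
  omega

theorem cmp_nrm (H : Ht D) {ι κ : Type*} [Fintype κ] (e : ℕ) (n : κ → ℕ)
    (a : κ → ℕ → MvPolynomial ι K) (ha : ∀ j k, (a j k).IsHomogeneous (e * k)) (B : ℕ) :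
    ∃ C : ℝ, 0 < C ∧ ∀ (x : ι → K) (y : κ → K) (ρ : ι → D) (τ : κ → D), IsRep x ρ → IsRep y τ →
      Rel n a x y → (∀ i, H.deg (ρ i) ≤ B) → ∀ R : ℝ, 0 ≤ R → (∀ i, H.nrm (ρ i) ≤ R) →
        ∀ j, H.nrm (τ j) ≤ C * R ^ e := by
  classical
  obtain ⟨A, hA, hmain⟩ := normalForm (D := D) e n a ha
  have h1 : ∀ j k, ∃ c : ℕ, k ∈ Finset.Icc 1 (n j) → ∀ (ρ : ι → D) (h : ℕ),
      (∀ i, H.deg (ρ i) ≤ h) → H.deg (eval ρ (A j k)) ≤ c + (e * k) * h := by
    intro j k
    by_cases hk : k ∈ Finset.Icc 1 (n j)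
    · obtain ⟨c, hc⟩ := H.deg_eval_le (A j k) (e * k) (hA j k hk)
      exact ⟨c, fun _ => hc⟩
    · exact ⟨0, fun h => absurd h hk⟩
  choose cst hcst using h1
  have h1' : ∀ j k, ∃ c : ℝ, 0 < c ∧ (k ∈ Finset.Icc 1 (n j) → ∀ (ρ : ι → D) (R : ℝ),
      (∀ i, H.nrm (ρ i) ≤ R) → 0 ≤ R → H.nrm (eval ρ (A j k)) ≤ c * R ^ (e * k)) := by
    intro j k
    by_cases hk : k ∈ Finset.Icc 1 (n j)
    · obtain ⟨c, hc0, hc⟩ := H.nrm_eval_le (A j k) (e * k) (hA j k hk)
      exact ⟨c, hc0, fun _ => hc⟩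
    · exact ⟨1, one_pos, fun h => absurd h hk⟩
  choose cn hcn0 hcn using h1'
  set c0 : ℕ := Finset.univ.sup fun j => (Finset.Icc 1 (n j)).sup fun k => cst j k with hc0
  set B' : ℕ := c0 + e * B with hB'
  have h2 : ∀ j, ∃ C : ℝ, 0 < C ∧ ∀ (a : ℕ → D) (y : D) (A R : ℝ), H.deg y ≤ B' → 1 ≤ A →
      0 ≤ R → (∀ k ∈ Finset.Icc 1 (n j), H.nrm (a k) ≤ A * R ^ k) →
      y ^ (n j) + ∑ k ∈ Finset.Icc 1 (n j), a k * y ^ (n j - k) = 0 →
      H.nrm y ≤ C * A * R := fun j => H.nrm_root_le (n j) B'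
  choose cr hcr0 hcr using h2
  obtain ⟨C2, hC2, hgel⟩ := H.gelfond B'
  set A0 : ℝ := 1 + ∑ j, ∑ k ∈ Finset.Icc 1 (n j), cn j k with hA0
  have hsum : ∀ j, ∀ k ∈ Finset.Icc 1 (n j), cn j k ≤ A0 := by
    intro j k hk
    have h3 : cn j k ≤ ∑ k ∈ Finset.Icc 1 (n j), cn j k :=
      Finset.single_le_sum (f := fun k => cn j k) (fun k _ => (hcn0 j k).le) hk
    have h4 : ∑ k ∈ Finset.Icc 1 (n j), cn j k ≤ ∑ j, ∑ k ∈ Finset.Icc 1 (n j), cn j k :=
      Finset.single_le_sum (f := fun j => ∑ k ∈ Finset.Icc 1 (n j), cn j k)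
        (fun j _ => Finset.sum_nonneg fun k _ => (hcn0 j k).le) (Finset.mem_univ j)
    rw [hA0]
    linarith
  have hA01 : 1 ≤ A0 := by
    have h5 : 0 ≤ ∑ j, ∑ k ∈ Finset.Icc 1 (n j), cn j k :=
      Finset.sum_nonneg fun j _ => Finset.sum_nonneg fun k _ => (hcn0 j k).le
    rw [hA0]
    linarith
  have hcrs : ∀ j, cr j ≤ ∑ j, cr j := fun j =>
    Finset.single_le_sum (f := fun j => cr j) (fun j _ => (hcr0 j).le) (Finset.mem_univ j)
  have hcrs0 : 0 ≤ ∑ j, cr j := Finset.sum_nonneg fun j _ => (hcr0 j).le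
  refine ⟨C2 * ((∑ j, cr j + 1) * A0), by positivity,
    fun x y ρ τ hx hy hrel hρ R hR hρR j => ?_⟩
  obtain ⟨d, hd0, hd⟩ := hmain x y ρ τ hx hy hrel
  have hRe : 0 ≤ R ^ e := pow_nonneg hR e
  by_cases hτ : τ j = 0
  · rw [hτ, H.nrm_zero]
    positivity
  have h2 : H.deg (d * τ j) ≤ B' := by
    refine H.deg_root_le (n j) (fun k => eval ρ (A j k)) _ _ _ (fun k hk => ?_) (hd j)
    refine (hcst j k hk ρ B hρ).trans (Nat.add_le_add ?_ ?_)
    · exact (Finset.le_sup (f := fun k => cst j k) hk).trans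
        (Finset.le_sup (f := fun j => (Finset.Icc 1 (n j)).sup fun k => cst j k)
          (Finset.mem_univ j))
    · exact le_of_eq (by ring)
  have h3 : H.nrm (d * τ j) ≤ cr j * A0 * R ^ e := by
    refine hcr j (fun k => eval ρ (A j k)) _ A0 (R ^ e) h2 hA01 hRe (fun k hk => ?_) (hd j)
    refine (hcn j k hk ρ R hρR hR).trans ?_
    rw [pow_mul]
    exact mul_le_mul_of_nonneg_right (hsum j k hk) (by positivity)
  have h4 : H.deg d ≤ B' ∧ H.deg (τ j) ≤ B' := by
    rw [H.deg_mul _ _ hd0 hτ] at h2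
    omega
  have h5 := hgel d (τ j) h4.1 h4.2
  have h6 : H.nrm (τ j) ≤ H.nrm d * H.nrm (τ j) := by
    have := H.one_le d hd0
    have := H.nrm_nonneg (τ j)
    nlinarith
  calc H.nrm (τ j) ≤ H.nrm d * H.nrm (τ j) := h6
    _ ≤ C2 * H.nrm (d * τ j) := h5
    _ ≤ C2 * (cr j * A0 * R ^ e) := mul_le_mul_of_nonneg_left h3 hC2.le
    _ ≤ C2 * ((∑ j, cr j + 1) * A0 * R ^ e) := by
        refine mul_le_mul_of_nonneg_left ?_ hC2.le
        refine mul_le_mul_of_nonneg_right ?_ hRe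
        refine mul_le_mul_of_nonneg_right ?_ (by linarith)
        linarith [hcrs j]
    _ = C2 * ((∑ j, cr j + 1) * A0) * R ^ e := by ring

end Rep

end K365.HtAlg
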