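/-
Algebra of heights, part 3: the two step descent and the abstract Mordell–Weil theorem.
-/
import Mathlib
import Groth.Agent.MultTori.K365.HtCmp

set_option autoImplicit false

namespace K365.HtAlg

open MvPolynomial

/-- **Two step descent.** -/
theorem fg_of_two_step {G : Type*} [AddCommGroup G] (s : Finset G) (m : ℕ) (hg la : G → ℝ)
    (c : ℝ) (hc : 0 ≤ c) (C : ℝ → ℝ)
    (hstep : ∀ P, ∃ Q ∈ s, ∃ P', P = m • P' + Q ∧ hg P' ≤ hg P / 2 + c ∧
      ∀ B, hg P ≤ B → la P' ≤ la P / 2 + C B)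
    (hnorth : ∀ B A : ℝ, {P | hg P ≤ B ∧ la P ≤ A}.Finite) : AddGroup.FG G := by
  classical
  set B0 : ℝ := 2 * c + 2 with hB0
  set C0 : ℝ := max (C B0) 0 with hC0
  set A0 : ℝ := 2 * C0 + 2 with hA0
  have hC0' : 0 ≤ C0 := le_max_right _ _
  let T : Set G := {P | hg P ≤ B0 ∧ la P ≤ A0}
  have hT : T.Finite := hnorth B0 A0
  let U : AddSubgroup G := AddSubgroup.closure (↑s ∪ T)
  have hsU : ∀ Q ∈ s, Q ∈ U := fun Q hQ =>
    AddSubgroup.subset_closure (Or.inl (Finset.mem_coe.2 hQ))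
  have hTU : ∀ P ∈ T, P ∈ U := fun P hP => AddSubgroup.subset_closure (Or.inr hP)
  -- first step: bounded `hg`
  have h1 : ∀ n : ℕ, ∀ P, hg P ≤ B0 → la P ≤ A0 + n → P ∈ U := by
    intro n
    induction n with
    | zero =>
      intro P h1 h2
      exact hTU P ⟨h1, by simpa using h2⟩
    | succ n ih =>
      intro P h1 h2
      by_cases h3 : la P ≤ A0
      · exact hTU P ⟨h1, h3⟩
      push Not at h3
      obtain ⟨Q, hQ, P', hP, h4, h5⟩ := hstep P
      have h6 := h5 B0 h1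
      have h7 : C B0 ≤ C0 := le_max_left _ _
      have h8 : hg P' ≤ B0 := by linarith
      have h9 : la P' ≤ A0 + n := by
        push_cast at h2
        linarith
      rw [hP]
      exact U.add_mem (U.nsmul_mem (ih P' h8 h9) m) (hsU Q hQ)
  have h2 : ∀ P, hg P ≤ B0 → P ∈ U := by
    intro P hP
    obtain ⟨n, hn⟩ := exists_nat_ge (la P - A0)
    exact h1 n P hP (by linarith)
  have h3 : ∀ n : ℕ, ∀ P, hg P ≤ B0 + n → P ∈ U := by
    intro n
    induction n with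
    | zero =>
      intro P h3
      exact h2 P (by simpa using h3)
    | succ n ih =>
      intro P h4
      by_cases h5 : hg P ≤ B0
      · exact h2 P h5
      push Not at h5
      obtain ⟨Q, hQ, P', hP, h6, -⟩ := hstep P
      have h7 : hg P' ≤ B0 + n := by
        push_cast at h4
        linarith
      rw [hP]
      exact U.add_mem (U.nsmul_mem (ih P' h7) m) (hsU Q hQ)
  have h4 : U = ⊤ := by
    rw [eq_top_iff]
    intro P _
    obtain ⟨n, hn⟩ := exists_nat_ge (hg P - B0)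
    exact h3 n P (by linarith)
  exact AddGroup.fg_iff.2 ⟨_, h4, s.finite_toSet.union hT⟩

section Main

variable {D : Type*} [CommRing D] [IsDomain D] [UniqueFactorizationMonoid D]
variable {K : Type*} [Field K] [Algebra D K] [IsFractionRing D K]

/-- The size of a vector: maximal degree of the coordinates. -/
noncomputable def hdeg (H : Ht D) {ι : Type*} [Fintype ι] (ρ : ι → D) : ℕ :=
  Finset.univ.sup fun i => H.deg (ρ i)

omit [IsDomain D] [UniqueFactorizationMonoid D] in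
theorem le_hdeg (H : Ht D) {ι : Type*} [Fintype ι] (ρ : ι → D) (i : ι) :
    H.deg (ρ i) ≤ hdeg H ρ :=
  Finset.le_sup (f := fun i => H.deg (ρ i)) (Finset.mem_univ i)

omit [IsDomain D] [UniqueFactorizationMonoid D] in
theorem hdeg_le (H : Ht D) {ι : Type*} [Fintype ι] (ρ : ι → D) (B : ℕ)
    (h : ∀ i, H.deg (ρ i) ≤ B) : hdeg H ρ ≤ B :=
  Finset.sup_le fun i _ => h i

/-- The size of a vector: sum of the norms of the coordinates. -/
noncomputable def hnrm (H : Ht D) {ι : Type*} [Fintype ι] (ρ : ι → D) : ℝ :=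
  ∑ i, H.nrm (ρ i)

omit [IsDomain D] [UniqueFactorizationMonoid D] in
theorem le_hnrm (H : Ht D) {ι : Type*} [Fintype ι] (ρ : ι → D) (i : ι) :
    H.nrm (ρ i) ≤ hnrm H ρ :=
  Finset.single_le_sum (f := fun i => H.nrm (ρ i)) (fun i _ => H.nrm_nonneg _)
    (Finset.mem_univ i)

omit [UniqueFactorizationMonoid D] in
theorem one_le_hnrm (H : Ht D) {ι : Type*} [Fintype ι] {ρ : ι → D} (h : Prim ρ) :
    1 ≤ hnrm H ρ := by
  obtain ⟨i, hi⟩ := h.exists_ne
  exact (H.one_le _ hi).trans (le_hnrm H ρ i)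

omit [IsDomain D] [UniqueFactorizationMonoid D] in
theorem hnrm_le (H : Ht D) {ι : Type*} [Fintype ι] (ρ : ι → D) (B : ℝ)
    (h : ∀ i, H.nrm (ρ i) ≤ B) : hnrm H ρ ≤ Fintype.card ι * B := by
  unfold hnrm
  refine (Finset.sum_le_sum fun i _ => h i).trans ?_
  rw [Finset.sum_const, nsmul_eq_mul, Finset.card_univ]

/-- **The abstract Mordell–Weil theorem**: a group with coordinates in `K`, injective up to
scalars, with the relations expressing `[m]^* L = L^(m²)` and `t_Q^* L ⊗ t_{-Q}^* L = L²`. -/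
theorem fg_of_rel (H : Ht D) {G : Type*} [AddCommGroup G] {ι : Type*} [Fintype ι]
    (x : G → ι → K) (hx : ∀ P, x P ≠ 0) (hinj : ∀ P Q, (∃ c : K, x P = c • x Q) → P = Q)
    (m : ℕ) (hm : 2 ≤ m) (s : Finset G) (hs : ∀ P, ∃ Q ∈ s, ∃ R, P = m • R + Q)
    (hmul : ∃ (n : ι → ℕ) (a : ι → ℕ → MvPolynomial ι K), (∀ i k, (a i k).IsHomogeneous (1 * k)) ∧
      ∀ P, Rel n a (x (m • P)) (fun i => x P i ^ (m ^ 2)))
    (hadd : ∀ Q, ∃ (n : ι × ι → ℕ) (b : ι × ι → ℕ → MvPolynomial ι K),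
      (∀ i k, (b i k).IsHomogeneous (2 * k)) ∧
      ∀ P, Rel n b (x P) (fun p => x (P + Q) p.1 * x (P - Q) p.2)) : AddGroup.FG G := by
  classical
  have hrep : ∀ P, ∃ ρ : ι → D, IsRep (x P) ρ := fun P => exists_rep (x P) (hx P)
  choose ρ hρ using hrep
  -- the two comparison theorems
  obtain ⟨n1, a1, ha1, hr1⟩ := hmul
  obtain ⟨c1, hc1⟩ := cmp_deg (D := D) H 1 n1 a1 ha1
  choose n2 a2 ha2 hr2 using hadd
  have hdeg2 := fun Q => cmp_deg (D := D) H 2 (n2 Q) (a2 Q) (ha2 Q)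
  choose c2 hc2 using hdeg2
  have hn1 := fun B => cmp_nrm (D := D) H 1 n1 a1 ha1 B
  choose N1 hN1 hN1' using hn1
  have hn2 := fun Q B => cmp_nrm (D := D) H 2 (n2 Q) (a2 Q) (ha2 Q) B
  choose N2 hN2 hN2' using hn2
  -- representatives of powers and products
  have hpow : ∀ P, IsRep (fun i => x P i ^ (m ^ 2)) (fun i => ρ P i ^ (m ^ 2)) := by
    intro P
    obtain ⟨h1, c, hc, h2⟩ := hρ P
    refine ⟨h1.pow _, c ^ (m ^ 2), pow_ne_zero _ hc, fun i => ?_⟩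
    dsimp only
    rw [h2 i, mul_pow, map_pow]
  have hprod : ∀ P Q, IsRep (fun p : ι × ι => x P p.1 * x Q p.2)
      (fun p : ι × ι => ρ P p.1 * ρ Q p.2) := by
    intro P Q
    obtain ⟨h1, c, hc, h2⟩ := hρ P
    obtain ⟨h3, d, hd, h4⟩ := hρ Q
    refine ⟨h1.mul h3, c * d, mul_ne_zero hc hd, fun p => ?_⟩
    dsimp only
    rw [h2, h4, map_mul]
    ring
  have hm2 : 4 ≤ m ^ 2 := by nlinarith
  -- (A) degree of `P'` in terms of the degree of `m P'`
  have hA : ∀ P, 4 * hdeg H (ρ P) ≤ c1 + hdeg H (ρ (m • P)) := by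
    intro P
    obtain ⟨i0, hi0⟩ := (hρ P).1.exists_ne
    have hne : (Finset.univ : Finset ι).Nonempty := ⟨i0, Finset.mem_univ _⟩
    obtain ⟨i, -, hi⟩ := Finset.exists_mem_eq_sup _ hne (fun i => H.deg (ρ P i))
    have h1 := hc1 _ _ _ _ (hρ (m • P)) (hpow P) (hr1 P) (hdeg H (ρ (m • P)))
      (fun i => le_hdeg H _ i) i
    have h2 : hdeg H (ρ P) = H.deg (ρ P i) := hi
    by_cases h0 : ρ P i = 0
    · rw [h0, H.deg_zero] at h2
      omega
    · rw [H.deg_pow _ h0, ← h2, one_mul] at h1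
      exact (Nat.mul_le_mul_right _ hm2).trans h1
  -- (B) degree of `P - Q`
  have hB : ∀ P Q, hdeg H (ρ (P - Q)) ≤ c2 Q + 2 * hdeg H (ρ P) := by
    intro P Q
    obtain ⟨i, hi⟩ := (hρ (P + Q)).1.exists_ne
    refine hdeg_le H _ _ fun j => ?_
    by_cases hj : ρ (P - Q) j = 0
    · rw [hj, H.deg_zero]
      exact Nat.zero_le _
    have h1 := hc2 Q _ _ _ _ (hρ P) (hprod (P + Q) (P - Q)) (hr2 Q P) (hdeg H (ρ P))
      (fun i => le_hdeg H _ i) (i, j)
    dsimp only at h1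
    rw [H.deg_mul _ _ hi hj] at h1
    omega
  -- (C) norm of `P'` in terms of the norm of `m P'`
  have hC : ∀ B : ℕ, ∃ C : ℝ, 0 < C ∧ ∀ P, hdeg H (ρ (m • P)) ≤ B →
      hnrm H (ρ P) ^ (m ^ 2) ≤ C * hnrm H (ρ (m • P)) := by
    intro B
    obtain ⟨C3, hC3, hC3'⟩ := H.gelfond_pow (c1 + B) (m ^ 2)
    refine ⟨(Fintype.card ι : ℝ) ^ (m ^ 2) * (C3 * N1 B) + 1, by
      have := hN1 B
      positivity, fun P hP => ?_⟩
    obtain ⟨i0, hi0⟩ := (hρ P).1.exists_ne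
    have hne : (Finset.univ : Finset ι).Nonempty := ⟨i0, Finset.mem_univ _⟩
    obtain ⟨i, -, hi⟩ := Finset.exists_max_image Finset.univ (fun i => H.nrm (ρ P i)) hne
    have h0 : 0 ≤ hnrm H (ρ (m • P)) := by linarith [one_le_hnrm H (hρ (m • P)).1]
    have h1 := hN1' B _ _ _ _ (hρ (m • P)) (hpow P) (hr1 P) (fun j => (le_hdeg H _ j).trans hP)
      (hnrm H (ρ (m • P))) h0 (fun j => le_hnrm H _ j) i
    rw [pow_one] at h1
    have h2 : H.deg (ρ P i) ≤ c1 + B := by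
      have h3 := hA P
      have h4 := le_hdeg H (ρ P) i
      omega
    have h3 := hC3' (ρ P i) h2
    have h4 : hnrm H (ρ P) ≤ Fintype.card ι * H.nrm (ρ P i) :=
      hnrm_le H _ _ fun j => hi j (Finset.mem_univ j)
    have h5 : 0 ≤ hnrm H (ρ P) := by linarith [one_le_hnrm H (hρ P).1]
    calc hnrm H (ρ P) ^ (m ^ 2) ≤ (Fintype.card ι * H.nrm (ρ P i)) ^ (m ^ 2) :=
          pow_le_pow_left₀ h5 h4 _
      _ = (Fintype.card ι : ℝ) ^ (m ^ 2) * H.nrm (ρ P i) ^ (m ^ 2) := mul_pow _ _ _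
      _ ≤ (Fintype.card ι : ℝ) ^ (m ^ 2) * (C3 * (N1 B * hnrm H (ρ (m • P)))) := by
          refine mul_le_mul_of_nonneg_left (h3.trans ?_) (by positivity)
          exact mul_le_mul_of_nonneg_left h1 hC3.le
      _ ≤ ((Fintype.card ι : ℝ) ^ (m ^ 2) * (C3 * N1 B) + 1) * hnrm H (ρ (m • P)) := by
          nlinarith
  -- (D) norm of `P - Q`
  have hD : ∀ (Q : G) (B : ℕ), ∃ C : ℝ, 0 < C ∧ ∀ P, hdeg H (ρ P) ≤ B →
      hnrm H (ρ (P - Q)) ≤ C * hnrm H (ρ P) ^ 2 := by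
    intro Q B
    obtain ⟨C3, hC3, hC3'⟩ := H.gelfond (c2 Q + 2 * B)
    refine ⟨Fintype.card ι * (C3 * N2 Q B) + 1, by
      have := hN2 Q B
      positivity, fun P hP => ?_⟩
    obtain ⟨i, hi⟩ := (hρ (P + Q)).1.exists_ne
    have h0 : 0 ≤ hnrm H (ρ P) := by linarith [one_le_hnrm H (hρ P).1]
    have h6 : ∀ j, H.nrm (ρ (P - Q) j) ≤ C3 * (N2 Q B * hnrm H (ρ P) ^ 2) := by
      intro j
      have h1 := hN2' Q B _ _ _ _ (hρ P) (hprod (P + Q) (P - Q)) (hr2 Q P)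
        (fun j => (le_hdeg H _ j).trans hP) (hnrm H (ρ P)) h0 (fun j => le_hnrm H _ j) (i, j)
      dsimp only at h1
      by_cases hj : ρ (P - Q) j = 0
      · rw [hj, H.nrm_zero]
        have := hN2 Q B
        positivity
      have h2 := hc2 Q _ _ _ _ (hρ P) (hprod (P + Q) (P - Q)) (hr2 Q P) (hdeg H (ρ P))
        (fun i => le_hdeg H _ i) (i, j)
      dsimp only at h2
      rw [H.deg_mul _ _ hi hj] at h2
      have h3 := hC3' (ρ (P + Q) i) (ρ (P - Q) j) (by omega) (by omega)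
      have h4 := H.one_le _ hi
      have h5 := H.nrm_nonneg (ρ (P - Q) j)
      calc H.nrm (ρ (P - Q) j) ≤ H.nrm (ρ (P + Q) i) * H.nrm (ρ (P - Q) j) := by nlinarith
        _ ≤ C3 * H.nrm (ρ (P + Q) i * ρ (P - Q) j) := h3
        _ ≤ C3 * (N2 Q B * hnrm H (ρ P) ^ 2) := mul_le_mul_of_nonneg_left h1 hC3.le
    have h7 := hnrm_le H (ρ (P - Q)) _ h6
    have h8 : 0 ≤ hnrm H (ρ P) ^ 2 := by positivity
    calc hnrm H (ρ (P - Q)) ≤ Fintype.card ι * (C3 * (N2 Q B * hnrm H (ρ P) ^ 2)) := h7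
      _ ≤ (Fintype.card ι * (C3 * N2 Q B) + 1) * hnrm H (ρ P) ^ 2 := by nlinarith
  choose CC hCC hCC' using hC
  choose CD hCD hCD' using hD
  -- assemble
  let cs : ℕ := s.sup c2
  have hcs : ∀ Q ∈ s, c2 Q ≤ cs := fun Q hQ => Finset.le_sup (f := c2) hQ
  let CCB : ℕ → ℝ := fun B => CC (cs + 2 * B)
  let CDB : ℕ → ℝ := fun B => 1 + ∑ Q ∈ s, CD Q B
  have hCDB : ∀ Q ∈ s, ∀ B, CD Q B ≤ CDB B := by
    intro Q hQ B
    have := Finset.single_le_sum (f := fun Q => CD Q B) (fun Q _ => (hCD Q B).le) hQ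
    change CD Q B ≤ 1 + ∑ Q ∈ s, CD Q B
    linarith
  have hCDB1 : ∀ B, 1 ≤ CDB B := by
    intro B
    have : 0 ≤ ∑ Q ∈ s, CD Q B := Finset.sum_nonneg fun Q _ => (hCD Q B).le
    change 1 ≤ 1 + ∑ Q ∈ s, CD Q B
    linarith
  refine fg_of_two_step s m (fun P => (hdeg H (ρ P) : ℝ)) (fun P => Real.log (hnrm H (ρ P)))
    ((c1 + cs : ℕ) : ℝ) (Nat.cast_nonneg _)
    (fun B => |Real.log (CCB ⌊B⌋₊ * CDB ⌊B⌋₊)|) ?_ ?_
  · intro P
    obtain ⟨Q, hQ, P', hP⟩ := hs P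
    have hPQ : m • P' = P - Q := by rw [hP, add_sub_cancel_right]
    refine ⟨Q, hQ, P', hP, ?_, ?_⟩
    · have h1 := hA P'
      have h2 := hB P Q
      rw [← hPQ] at h2
      have h3 := hcs Q hQ
      have h4 : 4 * hdeg H (ρ P') ≤ c1 + cs + 2 * hdeg H (ρ P) := by omega
      have h5 : (4 : ℝ) * hdeg H (ρ P') ≤ (c1 + cs : ℕ) + 2 * hdeg H (ρ P) := by exact_mod_cast h4
      have h6 : (0 : ℝ) ≤ ((c1 + cs : ℕ) : ℝ) := Nat.cast_nonneg _
      linarith
    · intro B hB'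
      set b := ⌊B⌋₊ with hb
      have hPb : hdeg H (ρ P) ≤ b := Nat.le_floor hB'
      have h1 : hdeg H (ρ (m • P')) ≤ cs + 2 * b := by
        have h2 := hB P Q
        rw [← hPQ] at h2
        have h3 := hcs Q hQ
        omega
      have h2 := hCC' (cs + 2 * b) P' h1
      have h3 := hCD' Q b P hPb
      rw [← hPQ] at h3
      have h4 := one_le_hnrm H (hρ P').1
      have h5 := one_le_hnrm H (hρ P).1
      have h6 : hnrm H (ρ P') ^ (m ^ 2) ≤ (CCB b * CDB b) * hnrm H (ρ P) ^ 2 := by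
        have h7 : 0 < CC (cs + 2 * b) := hCC _
        have h8 : 0 ≤ hnrm H (ρ P) ^ 2 := by positivity
        calc hnrm H (ρ P') ^ (m ^ 2) ≤ CC (cs + 2 * b) * hnrm H (ρ (m • P')) := h2
          _ ≤ CC (cs + 2 * b) * (CD Q b * hnrm H (ρ P) ^ 2) :=
            mul_le_mul_of_nonneg_left h3 h7.le
          _ ≤ CC (cs + 2 * b) * (CDB b * hnrm H (ρ P) ^ 2) := by
            refine mul_le_mul_of_nonneg_left ?_ h7.le
            exact mul_le_mul_of_nonneg_right (hCDB Q hQ b) h8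
          _ = (CCB b * CDB b) * hnrm H (ρ P) ^ 2 := by ring
      have h7 : 0 < CCB b * CDB b := mul_pos (hCC _) (by linarith [hCDB1 b])
      have h8 : 0 < hnrm H (ρ P) ^ 2 := by positivity
      have h9 := Real.log_le_log (by positivity) h6
      rw [Real.log_pow, Real.log_mul h7.ne' h8.ne', Real.log_pow] at h9
      have h10 : 0 ≤ Real.log (hnrm H (ρ P')) := Real.log_nonneg h4
      have h11 : (4 : ℝ) ≤ ((m ^ 2 : ℕ) : ℝ) := by exact_mod_cast hm2
      have h12 : 4 * Real.log (hnrm H (ρ P')) ≤ ((m ^ 2 : ℕ) : ℝ) * Real.log (hnrm H (ρ P')) :=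
        mul_le_mul_of_nonneg_right h11 h10
      have h13 := le_abs_self (Real.log (CCB b * CDB b))
      have h14 := abs_nonneg (Real.log (CCB b * CDB b))
      push_cast at h9 h12
      linarith
  · intro B A
    have hfin : {ρ' : ι → D | ∀ i, ρ' i ∈ {f : D | H.deg f ≤ ⌊B⌋₊ ∧ H.nrm f ≤ Real.exp A}}.Finite :=
      Set.Finite.pi' fun i => H.northcott _ _
    refine Set.Finite.of_finite_image (f := ρ) (hfin.subset ?_) ?_
    · rintro _ ⟨P, ⟨hP1, hP2⟩, rfl⟩ i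
      refine ⟨(le_hdeg H _ i).trans (Nat.le_floor hP1), (le_hnrm H _ i).trans ?_⟩
      have h1 := one_le_hnrm H (hρ P).1
      rw [← Real.exp_log (by linarith : 0 < hnrm H (ρ P))]
      exact Real.exp_le_exp.2 hP2
    · intro P _ Q _ hPQ
      obtain ⟨-, c, hc, h1⟩ := hρ P
      obtain ⟨-, d, hd, h2⟩ := hρ Q
      refine hinj P Q ⟨c / d, ?_⟩
      funext i
      rw [Pi.smul_apply, h1, h2, hPQ, smul_eq_mul]
      field_simp

end Main

end K365.HtAlg
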