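/-
Algebra of heights, part 4: the height structures on `D₀[t_1, …, t_n]`, `D₀ = ℤ` or `D₀ = 𝔽_p`.
-/
import Mathlib
import Groth.Agent.MultTori.K365.Ht

set_option autoImplicit false

namespace K365.HtAlg

open MvPolynomial

/-- Transport of a height structure. -/
def Ht.congr {D D' : Type*} [CommRing D] [CommRing D'] (e : D' ≃+* D) (H : Ht D) : Ht D' where
  deg f := H.deg (e f)
  nrm f := H.nrm (e f)
  deg_zero := by rw [map_zero, H.deg_zero]
  deg_one := by rw [map_one, H.deg_one]
  deg_neg f := by rw [map_neg, H.deg_neg]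
  deg_mul f g hf hg := by
    rw [map_mul, H.deg_mul _ _ (by simpa using hf) (by simpa using hg)]
  deg_add f g := by rw [map_add]; exact H.deg_add _ _
  nrm_nonneg f := H.nrm_nonneg _
  nrm_zero := by rw [map_zero, H.nrm_zero]
  nrm_one := by rw [map_one, H.nrm_one]
  nrm_neg f := by rw [map_neg, H.nrm_neg]
  one_le f hf := H.one_le _ (by simpa using hf)
  nrm_add f g := by rw [map_add]; exact H.nrm_add _ _
  nrm_mul f g := by rw [map_mul]; exact H.nrm_mul _ _
  gelfond B := by
    obtain ⟨C, hC, h⟩ := H.gelfond B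
    refine ⟨C, hC, fun f g hf hg => ?_⟩
    rw [map_mul]
    exact h _ _ hf hg
  northcott B A := by
    refine Set.Finite.of_finite_image (f := e) ((H.northcott B A).subset ?_) e.injective.injOn
    rintro _ ⟨f, hf, rfl⟩
    exact hf

/-- Finiteness of the set of polynomials with bounded degree and coefficients in a finite set. -/
theorem finite_of_coeff {n : ℕ} {R : Type*} [CommRing R] (B : ℕ) (S : Set R) (hS : S.Finite) :
    {f : MvPolynomial (Fin n) R | f.totalDegree ≤ B ∧ ∀ m, f.coeff m ∈ S}.Finite := by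
  classical
  let F : MvPolynomial (Fin n) R → ((Fin n → Fin (B + 1)) → R) := fun f v =>
    f.coeff (Finsupp.equivFunOnFinite.symm fun i => (v i : ℕ))
  have hfin : {g : (Fin n → Fin (B + 1)) → R | ∀ v, g v ∈ S}.Finite :=
    Set.Finite.pi' fun _ => hS
  refine Set.Finite.of_finite_image (f := F) (hfin.subset ?_) ?_
  · rintro _ ⟨f, hf, rfl⟩ v
    exact hf.2 _
  · intro f hf g hg hfg
    ext m
    by_cases hm : ∀ i, m i < B + 1
    · have h1 := congrFun hfg fun i => ⟨m i, hm i⟩
      have h2 : (Finsupp.equivFunOnFinite.symm fun i => m i) = m := by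
        ext i
        rfl
      simp only [F] at h1
      rwa [h2] at h1
    · push Not at hm
      obtain ⟨i, hi⟩ := hm
      have h1 : ∀ f : MvPolynomial (Fin n) R, f.totalDegree ≤ B → f.coeff m = 0 := by
        intro f hf
        by_contra hne
        have h2 := le_totalDegree (mem_support_iff.2 hne)
        have h3 : m i ≤ m.sum fun _ e => e := by
          rw [Finsupp.sum_fintype _ _ (fun _ => rfl)]
          exact Finset.single_le_sum (f := fun i => m i) (fun _ _ => Nat.zero_le _)
            (Finset.mem_univ i)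
        omega
      rw [h1 f hf.1, h1 g hg.1]

/-- The height structure over a finite domain. -/
noncomputable def htFinite (n : ℕ) (R : Type*) [CommRing R] [IsDomain R] [Finite R] :
    Ht (MvPolynomial (Fin n) R) := by
  classical
  exact
  { deg := fun f => f.totalDegree
    nrm := fun f => if f = 0 then 0 else 1
    deg_zero := totalDegree_zero
    deg_one := totalDegree_one
    deg_neg := fun f => totalDegree_neg f
    deg_mul := fun f g hf hg => totalDegree_mul_of_isDomain hf hg
    deg_add := fun f g => totalDegree_add f g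
    nrm_nonneg := fun f => by split_ifs <;> norm_num
    nrm_zero := if_pos rfl
    nrm_one := if_neg one_ne_zero
    nrm_neg := fun f => by simp
    one_le := fun f hf => by rw [if_neg hf]
    nrm_add := fun f g => by
      by_cases hf : f = 0
      · subst hf
        simp
      · rw [if_neg hf]
        split_ifs <;> norm_num
    nrm_mul := fun f g => by
      by_cases hf : f = 0
      · subst hf
        simp
      by_cases hg : g = 0
      · subst hg
        simp
      rw [if_neg hf, if_neg hg, if_neg (mul_ne_zero hf hg)]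
      norm_num
    gelfond := fun B => by
      refine ⟨1, one_pos, fun f g _ _ => ?_⟩
      by_cases hf : f = 0
      · subst hf
        simp
      by_cases hg : g = 0
      · subst hg
        simp
      rw [if_neg hf, if_neg hg, if_neg (mul_ne_zero hf hg)]
    northcott := fun B A => by
      refine (finite_of_coeff (n := n) (R := R) B Set.univ Set.finite_univ).subset ?_
      rintro f ⟨h1, -⟩
      exact ⟨h1, fun _ => Set.mem_univ _⟩ }

section Int

variable {σ : Type*}

/-- The `ℓ¹`-norm of an integral polynomial. -/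
noncomputable def len (f : MvPolynomial σ ℤ) : ℝ := ∑ m ∈ f.support, |((f.coeff m : ℤ) : ℝ)|

theorem len_eq (f : MvPolynomial σ ℤ) (S : Finset (σ →₀ ℕ)) (h : f.support ⊆ S) :
    len f = ∑ m ∈ S, |((f.coeff m : ℤ) : ℝ)| := by
  refine Finset.sum_subset h fun m _ hm => ?_
  rw [notMem_support_iff.1 hm, Int.cast_zero, abs_zero]

theorem len_nonneg (f : MvPolynomial σ ℤ) : 0 ≤ len f :=
  Finset.sum_nonneg fun _ _ => abs_nonneg _

theorem len_zero : len (0 : MvPolynomial σ ℤ) = 0 := by
  simp [len]

theorem len_one : len (1 : MvPolynomial σ ℤ) = 1 := by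
  classical
  rw [len_eq _ {0} support_one.subset]
  simp

theorem len_neg (f : MvPolynomial σ ℤ) : len (-f) = len f := by
  unfold len
  rw [support_neg]
  refine Finset.sum_congr rfl fun m _ => ?_
  rw [coeff_neg, Int.cast_neg, abs_neg]

theorem one_le_len (f : MvPolynomial σ ℤ) (hf : f ≠ 0) : 1 ≤ len f := by
  obtain ⟨m, hm⟩ := ne_zero_iff.1 hf
  have h1 : (1 : ℝ) ≤ |((f.coeff m : ℤ) : ℝ)| := by
    rw [← Int.cast_abs]
    exact_mod_cast Int.one_le_abs hm
  exact h1.trans (Finset.single_le_sum (f := fun m => |((f.coeff m : ℤ) : ℝ)|)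
    (fun _ _ => abs_nonneg _) (mem_support_iff.2 hm))

theorem len_add (f g : MvPolynomial σ ℤ) : len (f + g) ≤ len f + len g := by
  classical
  rw [len_eq (f + g) (f.support ∪ g.support) support_add,
    len_eq f (f.support ∪ g.support) Finset.subset_union_left,
    len_eq g (f.support ∪ g.support) Finset.subset_union_right, ← Finset.sum_add_distrib]
  refine Finset.sum_le_sum fun m _ => ?_
  rw [coeff_add, Int.cast_add]
  exact abs_add_le _ _

theorem len_sum {α : Type*} (s : Finset α) (f : α → MvPolynomial σ ℤ) :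
    len (∑ i ∈ s, f i) ≤ ∑ i ∈ s, len (f i) := by
  classical
  induction s using Finset.induction_on with
  | empty => rw [Finset.sum_empty, len_zero, Finset.sum_empty]
  | insert a s ha ih =>
    rw [Finset.sum_insert ha, Finset.sum_insert ha]
    exact (len_add _ _).trans (add_le_add le_rfl ih)

theorem len_monomial_mul (m : σ →₀ ℕ) (c : ℤ) (g : MvPolynomial σ ℤ) :
    len (monomial m c * g) ≤ |(c : ℝ)| * len g := by
  classical
  have h1 : (monomial m c * g).support ⊆ g.support.image (m + ·) := by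
    intro s hs
    rw [mem_support_iff, coeff_monomial_mul'] at hs
    split_ifs at hs with h
    · exact Finset.mem_image.2 ⟨s - m, mem_support_iff.2 (right_ne_zero_of_mul hs),
        add_tsub_cancel_of_le h⟩
    · exact absurd rfl hs
  rw [len_eq _ _ h1, Finset.sum_image (fun a _ b _ h => add_left_cancel h), len, Finset.mul_sum]
  refine Finset.sum_le_sum fun d _ => ?_
  rw [coeff_monomial_mul, Int.cast_mul, abs_mul]

theorem len_mul (f g : MvPolynomial σ ℤ) : len (f * g) ≤ len f * len g := by
  have h1 : f * g = ∑ m ∈ f.support, monomial m (f.coeff m) * g := by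
    conv_lhs => rw [f.as_sum, Finset.sum_mul]
  rw [h1]
  refine (len_sum _ _).trans ?_
  rw [len, Finset.sum_mul]
  exact Finset.sum_le_sum fun m _ => len_monomial_mul _ _ _

/-- The `ℓ¹`-norm of an integral polynomial in one variable. -/
noncomputable def len1 (p : Polynomial ℤ) : ℝ := ∑ k ∈ p.support, |((p.coeff k : ℤ) : ℝ)|

theorem len1_eq (p : Polynomial ℤ) (S : Finset ℕ) (h : p.support ⊆ S) :
    len1 p = ∑ k ∈ S, |((p.coeff k : ℤ) : ℝ)| := by
  refine Finset.sum_subset h fun m _ hm => ?_
  rw [Polynomial.notMem_support_iff.1 hm, Int.cast_zero, abs_zero]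

theorem len1_nonneg (p : Polynomial ℤ) : 0 ≤ len1 p :=
  Finset.sum_nonneg fun _ _ => abs_nonneg _

/-- The image in `ℂ[X]`. -/
noncomputable abbrev toC (p : Polynomial ℤ) : Polynomial ℂ := p.map (Int.castRingHom ℂ)

theorem norm_coeff_toC (p : Polynomial ℤ) (k : ℕ) :
    ‖(toC p).coeff k‖ = |((p.coeff k : ℤ) : ℝ)| := by
  rw [Polynomial.coeff_map]
  simp

theorem mahler_le_len1 (p : Polynomial ℤ) : (toC p).mahlerMeasure ≤ len1 p := by
  refine (Polynomial.mahlerMeasure_le_sum_norm_coeff _).trans ?_
  rw [Polynomial.sum_def, len1]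
  have h1 : (toC p).support = p.support :=
    Polynomial.support_map_of_injective p (Int.castRingHom ℂ).injective_int
  rw [h1]
  exact le_of_eq (Finset.sum_congr rfl fun k _ => norm_coeff_toC p k)

theorem len1_le_mahler (p : Polynomial ℤ) (M : ℕ) (hM : p.natDegree ≤ M) :
    len1 p ≤ 2 ^ M * (toC p).mahlerMeasure := by
  have h1 : p.support ⊆ Finset.range (p.natDegree + 1) := Polynomial.supp_subset_range_natDegree_succ
  have h2 : (toC p).natDegree = p.natDegree :=
    Polynomial.natDegree_map_eq_of_injective (Int.castRingHom ℂ).injective_int p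
  rw [len1_eq p _ h1]
  have h3 : ∑ k ∈ Finset.range (p.natDegree + 1), |((p.coeff k : ℤ) : ℝ)| ≤
      ∑ k ∈ Finset.range (p.natDegree + 1),
        ((p.natDegree.choose k : ℕ) : ℝ) * (toC p).mahlerMeasure := by
    refine Finset.sum_le_sum fun k _ => ?_
    rw [← norm_coeff_toC, ← h2]
    exact Polynomial.norm_coeff_le_choose_mul_mahlerMeasure k _
  refine h3.trans ?_
  rw [← Finset.sum_mul]
  refine mul_le_mul_of_nonneg_right ?_ (Polynomial.mahlerMeasure_nonneg _)
  have h4 : ∑ k ∈ Finset.range (p.natDegree + 1), ((p.natDegree.choose k : ℕ) : ℝ) =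
      2 ^ p.natDegree := by
    rw [← Nat.cast_sum, Nat.sum_range_choose]
    push_cast
    rfl
  rw [h4]
  exact pow_le_pow_right₀ (by norm_num) hM

/-- Gelfond's inequality in one variable. -/
theorem gelfond1 (p q : Polynomial ℤ) (M : ℕ) (hp : p.natDegree ≤ M) (hq : q.natDegree ≤ M) :
    len1 p * len1 q ≤ 2 ^ (M + M) * len1 (p * q) := by
  have h1 := len1_le_mahler p M hp
  have h2 := len1_le_mahler q M hq
  have h3 : (toC (p * q)).mahlerMeasure = (toC p).mahlerMeasure * (toC q).mahlerMeasure := by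
    rw [toC, Polynomial.map_mul, Polynomial.mahlerMeasure_mul]
  calc len1 p * len1 q ≤ (2 ^ M * (toC p).mahlerMeasure) * (2 ^ M * (toC q).mahlerMeasure) :=
        mul_le_mul h1 h2 (len1_nonneg q)
          (mul_nonneg (by positivity) (Polynomial.mahlerMeasure_nonneg _))
    _ = 2 ^ (M + M) * (toC (p * q)).mahlerMeasure := by
        rw [h3, pow_add]
        ring
    _ ≤ 2 ^ (M + M) * len1 (p * q) :=
        mul_le_mul_of_nonneg_left (mahler_le_len1 _) (by positivity)

/-- Kronecker's exponent. -/
def kex {n : ℕ} (N : ℕ) (m : Fin n →₀ ℕ) : ℕ := ∑ i, m i * N ^ (i : ℕ)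

/-- Kronecker's substitution `t_i ↦ X ^ (N ^ i)`. -/
noncomputable def kro {n : ℕ} (N : ℕ) (f : MvPolynomial (Fin n) ℤ) : Polynomial ℤ :=
  ∑ m ∈ f.support, Polynomial.C (f.coeff m) * Polynomial.X ^ (kex N m)

theorem kro_eq {n : ℕ} (N : ℕ) (f : MvPolynomial (Fin n) ℤ) :
    kro N f = aeval (fun i : Fin n => (Polynomial.X : Polynomial ℤ) ^ (N ^ (i : ℕ))) f := by
  classical
  rw [aeval_def, eval₂_eq, kro]
  refine Finset.sum_congr rfl fun m _ => ?_
  congr 1
  rw [kex, ← Finset.prod_pow_eq_pow_sum]
  rw [Finset.prod_subset (Finset.subset_univ m.support)]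
  · refine Finset.prod_congr rfl fun i _ => ?_
    rw [← pow_mul, mul_comm]
  · intro i _ hi
    rw [Finsupp.notMem_support_iff.1 hi, pow_zero]

theorem kro_mul {n : ℕ} (N : ℕ) (f g : MvPolynomial (Fin n) ℤ) :
    kro N (f * g) = kro N f * kro N g := by
  rw [kro_eq, kro_eq, kro_eq, map_mul]

theorem len1_add (p q : Polynomial ℤ) : len1 (p + q) ≤ len1 p + len1 q := by
  classical
  rw [len1_eq (p + q) (p.support ∪ q.support) Polynomial.support_add,
    len1_eq p (p.support ∪ q.support) Finset.subset_union_left,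
    len1_eq q (p.support ∪ q.support) Finset.subset_union_right, ← Finset.sum_add_distrib]
  refine Finset.sum_le_sum fun m _ => ?_
  rw [Polynomial.coeff_add, Int.cast_add]
  exact abs_add_le _ _

theorem len1_kro_le {n : ℕ} (N : ℕ) (f : MvPolynomial (Fin n) ℤ) : len1 (kro N f) ≤ len f := by
  classical
  have h0 : ∀ (s : Finset (Fin n →₀ ℕ)) (F : (Fin n →₀ ℕ) → Polynomial ℤ),
      len1 (∑ i ∈ s, F i) ≤ ∑ i ∈ s, len1 (F i) := by
    intro s F
    induction s using Finset.induction_on with
    | empty => simp [len1]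
    | insert a s ha ih =>
      rw [Finset.sum_insert ha, Finset.sum_insert ha]
      exact (len1_add _ _).trans (add_le_add le_rfl ih)
  refine (h0 _ _).trans (Finset.sum_le_sum fun m _ => ?_)
  rw [len1_eq _ {kex N m} (Polynomial.support_C_mul_X_pow_subset _ _)]
  simp

theorem kex_inj {n : ℕ} (N : ℕ) (m m' : Fin n →₀ ℕ) (hm : ∀ i, m i < N) (hm' : ∀ i, m' i < N)
    (h : kex N m = kex N m') : m = m' := by
  have h1 : finFunctionFinEquiv (fun i => (⟨m i, hm i⟩ : Fin N)) =
      finFunctionFinEquiv (fun i => (⟨m' i, hm' i⟩ : Fin N)) := by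
    apply Fin.ext
    rw [finFunctionFinEquiv_apply, finFunctionFinEquiv_apply]
    exact h
  have h2 := finFunctionFinEquiv.injective h1
  ext i
  exact congrArg Fin.val (congrFun h2 i)

theorem kex_lt {n : ℕ} (N : ℕ) (m : Fin n →₀ ℕ) (hm : ∀ i, m i < N) : kex N m < N ^ n := by
  have h1 := (finFunctionFinEquiv (fun i => (⟨m i, hm i⟩ : Fin N))).2
  rw [finFunctionFinEquiv_apply] at h1
  exact h1

theorem exponent_lt {n : ℕ} {f : MvPolynomial (Fin n) ℤ} {B : ℕ} (hf : f.totalDegree ≤ B)
    {m : Fin n →₀ ℕ} (hm : m ∈ f.support) (i : Fin n) : m i < B + 1 := by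
  have h2 := le_totalDegree hm
  have h3 : m i ≤ m.sum fun _ e => e := by
    rw [Finsupp.sum_fintype _ _ (fun _ => rfl)]
    exact Finset.single_le_sum (f := fun i => m i) (fun _ _ => Nat.zero_le _) (Finset.mem_univ i)
  omega

theorem len_le_len1_kro {n : ℕ} (f : MvPolynomial (Fin n) ℤ) (B : ℕ) (hf : f.totalDegree ≤ B) :
    len f ≤ len1 (kro (B + 1) f) := by
  classical
  have hinj : ∀ m ∈ f.support, ∀ m' ∈ f.support, kex (B + 1) m = kex (B + 1) m' → m = m' :=
    fun m hm m' hm' h => kex_inj _ m m' (exponent_lt hf hm) (exponent_lt hf hm') h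
  have hcoeff : ∀ m ∈ f.support, (kro (B + 1) f).coeff (kex (B + 1) m) = f.coeff m := by
    intro m hm
    rw [kro, Polynomial.finsetSum_coeff, Finset.sum_eq_single m]
    · rw [Polynomial.coeff_C_mul_X_pow, if_pos rfl]
    · intro m' hm' hne
      rw [Polynomial.coeff_C_mul_X_pow, if_neg]
      exact fun h => hne (hinj m hm m' hm' h).symm
    · exact fun h => absurd hm h
  have h1 : len f = ∑ k ∈ f.support.image (kex (B + 1)), |(((kro (B + 1) f).coeff k : ℤ) : ℝ)| := by
    rw [Finset.sum_image hinj, len]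
    exact Finset.sum_congr rfl fun m hm => by rw [hcoeff m hm]
  rw [h1]
  rw [len1_eq (kro (B + 1) f) ((kro (B + 1) f).support ∪ f.support.image (kex (B + 1)))
    Finset.subset_union_left]
  exact Finset.sum_le_sum_of_subset_of_nonneg Finset.subset_union_right
    fun _ _ _ => abs_nonneg _

theorem natDegree_kro_le {n : ℕ} (f : MvPolynomial (Fin n) ℤ) (B : ℕ) (hf : f.totalDegree ≤ B) :
    (kro (B + 1) f).natDegree ≤ (B + 1) ^ n := by
  refine Polynomial.natDegree_sum_le_of_forall_le _ _ fun m hm => ?_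
  exact (Polynomial.natDegree_C_mul_X_pow_le _ _).trans (kex_lt _ m (exponent_lt hf hm)).le

/-- **Gelfond's inequality** in bounded degree. -/
theorem gelfond_int {n : ℕ} (B : ℕ) : ∃ C : ℝ, 0 < C ∧ ∀ f g : MvPolynomial (Fin n) ℤ,
    f.totalDegree ≤ B → g.totalDegree ≤ B → len f * len g ≤ C * len (f * g) := by
  refine ⟨2 ^ ((B + 1) ^ n + (B + 1) ^ n), by positivity, fun f g hf hg => ?_⟩
  calc len f * len g ≤ len1 (kro (B + 1) f) * len1 (kro (B + 1) g) :=
        mul_le_mul (len_le_len1_kro f B hf) (len_le_len1_kro g B hg) (len_nonneg g)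
          (len1_nonneg _)
    _ ≤ 2 ^ ((B + 1) ^ n + (B + 1) ^ n) * len1 (kro (B + 1) f * kro (B + 1) g) :=
        gelfond1 _ _ _ (natDegree_kro_le f B hf) (natDegree_kro_le g B hg)
    _ ≤ 2 ^ ((B + 1) ^ n + (B + 1) ^ n) * len (f * g) := by
        rw [← kro_mul]
        exact mul_le_mul_of_nonneg_left (len1_kro_le _ _) (by positivity)

theorem northcott_int {n : ℕ} (B : ℕ) (A : ℝ) :
    {f : MvPolynomial (Fin n) ℤ | f.totalDegree ≤ B ∧ len f ≤ A}.Finite := by
  have hS : {c : ℤ | |(c : ℝ)| ≤ A}.Finite := by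
    refine (Set.finite_Icc (-⌈A⌉) ⌈A⌉).subset fun c hc => ?_
    have h1 : |(c : ℝ)| ≤ A := hc
    have h2 := abs_le.1 h1
    have h3 := Int.le_ceil A
    constructor
    · have h4 : -((⌈A⌉ : ℤ) : ℝ) ≤ (c : ℝ) := by linarith
      exact_mod_cast h4
    · have h4 : (c : ℝ) ≤ ((⌈A⌉ : ℤ) : ℝ) := by linarith
      exact_mod_cast h4
  refine (finite_of_coeff (n := n) (R := ℤ) B _ hS).subset ?_
  rintro f ⟨h1, h2⟩
  refine ⟨h1, fun m => ?_⟩
  have h3 : (0 : ℝ) ≤ A := (len_nonneg f).trans h2
  by_cases hm : m ∈ f.support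
  · exact (Finset.single_le_sum (f := fun m => |((f.coeff m : ℤ) : ℝ)|)
      (fun _ _ => abs_nonneg _) hm).trans h2
  · change |((f.coeff m : ℤ) : ℝ)| ≤ A
    rw [notMem_support_iff.1 hm, Int.cast_zero, abs_zero]
    exact h3

/-- The height structure over `ℤ`. -/
noncomputable def htInt (n : ℕ) : Ht (MvPolynomial (Fin n) ℤ) where
  deg f := f.totalDegree
  nrm f := len f
  deg_zero := totalDegree_zero
  deg_one := totalDegree_one
  deg_neg f := totalDegree_neg f
  deg_mul f g hf hg := totalDegree_mul_of_isDomain hf hg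
  deg_add f g := totalDegree_add f g
  nrm_nonneg f := len_nonneg f
  nrm_zero := len_zero
  nrm_one := len_one
  nrm_neg f := len_neg f
  one_le f hf := one_le_len f hf
  nrm_add f g := len_add f g
  nrm_mul f g := len_mul f g
  gelfond B := gelfond_int B
  northcott B A := northcott_int B A

end Int

section Prime

variable (D₀ : Type*) [CommRing D₀] [IsDomain D₀] (h : Function.Surjective (Int.castRingHom D₀))

include h in
/-- A domain which is a quotient of `ℤ` is `ℤ` or finite. -/
theorem int_or_finite : Nonempty (D₀ ≃+* ℤ) ∨ Finite D₀ := by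
  by_cases hinj : Function.Injective (Int.castRingHom D₀)
  · exact Or.inl ⟨(RingEquiv.ofBijective _ ⟨hinj, h⟩).symm⟩
  · refine Or.inr ?_
    obtain ⟨a, ha, ha0⟩ : ∃ a : ℤ, (Int.castRingHom D₀) a = 0 ∧ a ≠ 0 := by
      by_contra hn
      push Not at hn
      exact hinj ((injective_iff_map_eq_zero _).2 hn)
    have hfin : Finite (ℤ ⧸ Ideal.span {a}) := by
      have : NeZero a.natAbs := ⟨Int.natAbs_ne_zero.2 ha0⟩
      exact Finite.of_equiv _ (Int.quotientSpanEquivZMod a).symm.toEquiv
    have hle : Ideal.span {a} ≤ RingHom.ker (Int.castRingHom D₀) := by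
      rw [Ideal.span_singleton_le_iff_mem]
      exact ha
    exact Finite.of_surjective (Ideal.Quotient.lift (Ideal.span {a}) (Int.castRingHom D₀)
      (fun x hx => hle hx)) (Ideal.Quotient.lift_surjective_of_surjective _ _ h)

include h in
/-- **Height structures** on polynomial rings over a prime ring. -/
theorem nonempty_ht (n : ℕ) : Nonempty (Ht (MvPolynomial (Fin n) D₀)) := by
  rcases int_or_finite D₀ h with ⟨⟨e⟩⟩ | hfin
  · exact ⟨(htInt n).congr (mapEquiv (Fin n) e)⟩
  · exact ⟨htFinite n D₀⟩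

include h in
/-- Polynomial rings over a prime ring are factorial. -/
theorem uniqueFactorizationMonoid (n : ℕ) :
    UniqueFactorizationMonoid (MvPolynomial (Fin n) D₀) := by
  have h0 : UniqueFactorizationMonoid D₀ := by
    rcases int_or_finite D₀ h with ⟨⟨e⟩⟩ | hfin
    · exact e.symm.toMulEquiv.uniqueFactorizationMonoid inferInstance
    · have hf : IsField D₀ := Finite.isField_of_domain D₀
      letI := hf.toField
      infer_instance
  infer_instance

end Prime

end K365.HtAlg
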