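/-
Algebra of heights, part 5: the abstract Mordell–Weil theorem over `Frac D₀[t_1, …, t_n]`,
`D₀ = ℤ` or `𝔽_p`, in the form in which the geometric input is delivered (relations
`z ^ d + Σ_{k < d} a_k(y) z ^ (d - 1 - k) = 0` with `a_k` homogeneous of degree `e (k + 1)`).
-/
import Mathlib
import Groth.Agent.MultTori.K365.HtMain
import Groth.Agent.MultTori.K365.HtPoly

set_option autoImplicit false

namespace K365.HtAlg

open MvPolynomial

section Conv

variable {K : Type*} [Field K]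

/-- Conversion of relations. -/
theorem rel_of_fin {ι κ : Type*} (d : ℕ) (a : Fin d → κ → MvPolynomial ι K) (x : ι → K)
    (y : κ → K) (h : ∃ c : K, c ≠ 0 ∧ ∀ j, (c * y j) ^ d +
      ∑ k : Fin d, eval x (a k j) * (c * y j) ^ (d - 1 - (k : ℕ)) = 0) :
    Rel (fun _ => d) (fun j k => if hk : k - 1 < d then a ⟨k - 1, hk⟩ j else 0) x y := by
  obtain ⟨c, hc, h1⟩ := h
  refine ⟨c, hc, fun j => ?_⟩
  change (c * y j) ^ d + ∑ k ∈ Finset.Icc 1 d,
    eval x (if hk : k - 1 < d then a ⟨k - 1, hk⟩ j else 0) * (c * y j) ^ (d - k) = 0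
  rw [← h1 j]
  congr 1
  symm
  refine Finset.sum_bij (fun (k : Fin d) _ => (k : ℕ) + 1) ?_ ?_ ?_ ?_
  · intro k _
    have := k.2
    exact Finset.mem_Icc.2 ⟨by omega, by omega⟩
  · intro k _ k' _ hkk'
    exact Fin.ext (by omega)
  · intro k hk
    have := Finset.mem_Icc.1 hk
    exact ⟨⟨k - 1, by omega⟩, Finset.mem_univ _, by simp only; omega⟩
  · intro k _
    have h2 : (k : ℕ) + 1 - 1 < d := by
      have := k.2
      omega
    have h3 : d - 1 - (k : ℕ) = d - ((k : ℕ) + 1) := by omega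
    rw [dif_pos h2, h3]
    rfl

theorem isHomogeneous_of_fin {ι κ : Type*} (e d : ℕ) (a : Fin d → κ → MvPolynomial ι K)
    (ha : ∀ k j, (a k j).IsHomogeneous (e * ((k : ℕ) + 1))) (j : κ) (k : ℕ) :
    ((fun (j : κ) (k : ℕ) => if hk : k - 1 < d then a ⟨k - 1, hk⟩ j else 0) j k).IsHomogeneous
      (e * k) ∨ k = 0 := by
  by_cases hk0 : k = 0
  · exact Or.inr hk0
  left
  dsimp only
  split_ifs with h
  · have h1 := ha ⟨k - 1, h⟩ j
    have h2 : k - 1 + 1 = k := by omega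
    dsimp only at h1
    rwa [h2] at h1
  · exact isHomogeneous_zero _ _ _

end Conv

/-- **The abstract Mordell–Weil theorem** over a field `K` which is the fraction field of a
factorial domain with a height structure. -/
theorem fg_of_rel_fin {D K : Type*} [CommRing D] [IsDomain D] [UniqueFactorizationMonoid D]
    [Field K] [Algebra D K] [IsFractionRing D K] (H : Ht D)
    {G : Type*} [AddCommGroup G] {ι : Type*} [Fintype ι]
    (x : G → ι → K) (hx : ∀ P, x P ≠ 0) (hinj : ∀ P Q, (∃ c : K, x P = c • x Q) → P = Q)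
    (m : ℕ) (hm : 2 ≤ m) (s : Finset G) (hs : ∀ P, ∃ Q ∈ s, ∃ R, P = m • R + Q)
    (hadd : ∀ Q, ∃ (d : ℕ) (a : Fin d → ι → ι → MvPolynomial ι K),
      (∀ k i j, (a k i j).IsHomogeneous (2 * ((k : ℕ) + 1))) ∧
      ∀ P, ∃ c : K, c ≠ 0 ∧ ∀ i j, (c * (x (P + Q) i * x (P - Q) j)) ^ d +
        ∑ k : Fin d, eval (x P) (a k i j) *
          (c * (x (P + Q) i * x (P - Q) j)) ^ (d - 1 - (k : ℕ)) = 0)
    (hmul : ∃ (d : ℕ) (b : Fin d → ι → MvPolynomial ι K),
      (∀ k i, (b k i).IsHomogeneous ((k : ℕ) + 1)) ∧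
      ∀ P, ∃ c : K, c ≠ 0 ∧ ∀ i, (c * x P i ^ (m ^ 2)) ^ d +
        ∑ k : Fin d, eval (x (m • P)) (b k i) * (c * x P i ^ (m ^ 2)) ^ (d - 1 - (k : ℕ)) = 0) :
    AddGroup.FG G := by
  -- replace the irrelevant zeroth polynomials by zero
  have fix : ∀ {κ : Type _} (e d : ℕ) (a : Fin d → κ → MvPolynomial ι K)
      (_ : ∀ k j, (a k j).IsHomogeneous (e * ((k : ℕ) + 1))),
      ∃ a' : κ → ℕ → MvPolynomial ι K, (∀ j k, (a' j k).IsHomogeneous (e * k)) ∧
        ∀ (x' : ι → K) (y : κ → K), (∃ c : K, c ≠ 0 ∧ ∀ j, (c * y j) ^ d +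
          ∑ k : Fin d, eval x' (a k j) * (c * y j) ^ (d - 1 - (k : ℕ)) = 0) →
          Rel (fun _ => d) a' x' y := by
    intro κ e d a ha
    refine ⟨fun j k => if k = 0 then 0 else if hk : k - 1 < d then a ⟨k - 1, hk⟩ j else 0,
      fun j k => ?_, fun x' y h => ?_⟩
    · dsimp only
      by_cases hk : k = 0
      · rw [if_pos hk]
        exact isHomogeneous_zero _ _ _
      · rw [if_neg hk]
        exact (isHomogeneous_of_fin e d a ha j k).resolve_right hk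
    · obtain ⟨c, hc, h1⟩ := rel_of_fin d a x' y h
      refine ⟨c, hc, fun j => ?_⟩
      rw [← h1 j]
      congr 1
      refine Finset.sum_congr rfl fun k hk => ?_
      have hk0 : k ≠ 0 := by
        have := Finset.mem_Icc.1 hk
        omega
      simp only [if_neg hk0]
  refine fg_of_rel H x hx hinj m hm s hs ?_ ?_
  · obtain ⟨d, b, hb, hr⟩ := hmul
    obtain ⟨a', ha', hr'⟩ := fix 1 d b (fun k j => by rw [one_mul]; exact hb k j)
    exact ⟨fun _ => d, a', ha', fun P => hr' _ _ (hr P)⟩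
  · intro Q
    obtain ⟨d, a, ha, hr⟩ := hadd Q
    obtain ⟨a', ha', hr'⟩ := fix 2 d (fun k (p : ι × ι) => a k p.1 p.2) (fun k p => ha k p.1 p.2)
    refine ⟨fun _ => d, a', ha', fun P => hr' _ _ ?_⟩
    obtain ⟨c, hc, h⟩ := hr P
    exact ⟨c, hc, fun p => h p.1 p.2⟩

/-- **The abstract Mordell–Weil theorem** over the rational function field
`Frac D₀[t_1, …, t_n]`, `D₀` a prime ring. -/
theorem fg_of_rel_prime {D₀ K : Type*} [CommRing D₀] [IsDomain D₀]
    (h : Function.Surjective (Int.castRingHom D₀)) (n : ℕ)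
    [Field K] [Algebra (MvPolynomial (Fin n) D₀) K] [IsFractionRing (MvPolynomial (Fin n) D₀) K]
    {G : Type*} [AddCommGroup G] {ι : Type*} [Fintype ι]
    (x : G → ι → K) (hx : ∀ P, x P ≠ 0) (hinj : ∀ P Q, (∃ c : K, x P = c • x Q) → P = Q)
    (m : ℕ) (hm : 2 ≤ m) (s : Finset G) (hs : ∀ P, ∃ Q ∈ s, ∃ R, P = m • R + Q)
    (hadd : ∀ Q, ∃ (d : ℕ) (a : Fin d → ι → ι → MvPolynomial ι K),
      (∀ k i j, (a k i j).IsHomogeneous (2 * ((k : ℕ) + 1))) ∧
      ∀ P, ∃ c : K, c ≠ 0 ∧ ∀ i j, (c * (x (P + Q) i * x (P - Q) j)) ^ d +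
        ∑ k : Fin d, eval (x P) (a k i j) *
          (c * (x (P + Q) i * x (P - Q) j)) ^ (d - 1 - (k : ℕ)) = 0)
    (hmul : ∃ (d : ℕ) (b : Fin d → ι → MvPolynomial ι K),
      (∀ k i, (b k i).IsHomogeneous ((k : ℕ) + 1)) ∧
      ∀ P, ∃ c : K, c ≠ 0 ∧ ∀ i, (c * x P i ^ (m ^ 2)) ^ d +
        ∑ k : Fin d, eval (x (m • P)) (b k i) * (c * x P i ^ (m ^ 2)) ^ (d - 1 - (k : ℕ)) = 0) :
    AddGroup.FG G := by
  obtain ⟨H⟩ := nonempty_ht D₀ h n
  have := uniqueFactorizationMonoid D₀ h n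
  exact fg_of_rel_fin H x hx hinj m hm s hs hadd hmul

end K365.HtAlg
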